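import Mathlib
import Cfsg.Prelude.Def_EvenType
import Cfsg.Agent.Schreier.KBalance
import Cfsg.Agent.Intrinsic.Charac
import Cfsg.Agent.Lib.ComponentSolvable
import Cfsg.Agent.SignalizersComponents.ComponentImage
set_option linter.all false

/-!
# `Good p H` : the `p`-layer of `H` centralises the `p'`-core of `H`

The vocabulary of S1332 (the `B_p`-property). `Good p H := ⁅pLayer p H, pPrimeCore p H⁆ = ⊥`, i.e. every `p`-component
of `H` is quasisimple. Main tools:

* `good_iff`, `Good.congr`, `good_of_core` (`O_{p'}(H) = 1`), `good_of_pLayer` (no `p`-components), `good_of_solvable`,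
  `good_of_simple`;
* `Good.of_normal` (`N` normal, `pLayer p H ≤ N`, e.g. `H / N` solvable), `Good.subnormal` (inherited by normal
  subgroups);
* `Good.of_family` : homomorphisms onto good groups whose kernels have central intersection;
  `Good.of_central`, `Good.prod`;
* `BpS p K` : `Good p (C_K(x))` for every automorphism `x` of order `p` of `K`.
-/

set_option autoImplicit false
set_option linter.unusedSectionVars false

namespace Cfsg.Agent.BpTab

open Subgroup Cfsg Cfsg.Agent.Lib Cfsg.Agent.SignalizersComponents
open Cfsg.Agent.Intrinsic.Charac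

universe u v

/-- Every `p`-component of `H` centralises `O_{p'}(H)` (so it is quasisimple). -/
def Good (p : ℕ) (H : Type*) [Group H] : Prop := ⁅pLayer p H, pPrimeCore p H⁆ = ⊥

/-- The row format: the fixed points of every automorphism of order `p` are good. -/
def BpS (p : ℕ) (K : Type*) [Group K] : Prop :=
  ∀ x : MulAut K, orderOf x = p → Good p ↥(fixedSubgroup x)

section Basic

variable {H : Type*} [Group H] {p : ℕ}

theorem good_iff : Good p H ↔ ∀ K : Subgroup H, IsPComponent p K → ⁅K, pPrimeCore p H⁆ = ⊥ := by
  unfold Good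
  constructor
  · intro h K hK
    rw [eq_bot_iff, ← h]
    exact commutator_mono (le_sSup hK) le_rfl
  · intro h
    rw [commutator_eq_bot_iff_le_centralizer]
    refine sSup_le fun K hK => ?_
    exact commutator_eq_bot_iff_le_centralizer.mp (h K hK)

theorem good_of_core (h : pPrimeCore p H = ⊥) : Good p H := by
  unfold Good
  rw [h, commutator_bot_right]

theorem good_of_pLayer (h : pLayer p H = ⊥) : Good p H := by
  unfold Good
  rw [h, commutator_bot_left]

theorem good_of_none (h : ∀ K : Subgroup H, ¬ IsPComponent p K) : Good p H :=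
  good_iff.mpr fun K hK => (h K hK).elim

variable [Finite H] [hp : Fact p.Prime]

omit hp in
theorem pLayer_perfect : ⁅pLayer p H, pLayer p H⁆ = pLayer p H := by
  apply le_antisymm (commutator_le_self _)
  conv_lhs => unfold pLayer
  refine sSup_le fun K hK => ?_
  rw [← ClassificationK.PCompTransport.isPComponent_perfect p hK]
  exact commutator_mono (le_sSup hK) (le_sSup hK)

omit hp in
/-- `[L, A, L] = 1` implies `[L, A] = 1` for the `p`-layer `L`. -/
theorem commutator_pLayer_eq_bot {A : Subgroup H} (h : ⁅⁅A, pLayer p H⁆, pLayer p H⁆ = ⊥) :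
    ⁅A, pLayer p H⁆ = ⊥ :=
  ComponentSolvable.commutator_eq_bot_of_perfect (Subgroup.isPerfect_iff.mpr pLayer_perfect) h

omit hp in
theorem not_isPComponent_of_solvable (hs : Group.IsSolvable H) (K : Subgroup H) : ¬ IsPComponent p K := by
  intro hK
  have h1 := hK.2.1.2
  have := Cores.pPrimeCore_normal (G := H) p
  have h2 : Group.IsSolvable (H ⧸ pPrimeCore p H) := inferInstance
  exact Components.quasisimple_not_isSolvable h1 inferInstance

omit hp in
theorem good_of_solvable (hs : Group.IsSolvable H) : Good p H :=
  good_of_none fun K hK => not_isPComponent_of_solvable hs K hK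

omit hp in
/-- A group of order prime to `p` has no `p`-components. -/
theorem good_of_not_dvd (h : ¬ p ∣ Nat.card H) (hp : p.Prime) : Good p H := by
  have : Fact p.Prime := ⟨hp⟩
  exact good_of_none fun K hK => h ((PComponents.prime_dvd_card_pcomp hK).trans (card_subgroup_dvd_card K))

theorem pPrimeCore_eq_bot_of_simple (hs : IsSimpleGroup H) (hd : p ∣ Nat.card H) :
    pPrimeCore p H = ⊥ := by
  rcases (Cores.pPrimeCore_normal (G := H) p).eq_bot_or_eq_top with h | h
  · exact h
  · exfalso
    have h1 := Cores.pPrimeCore_coprime (G := H) p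
    rw [h, Nat.card_congr (Subgroup.topEquiv (G := H)).toEquiv] at h1
    exact (Nat.Prime.coprime_iff_not_dvd hp.out).mp h1.symm hd

theorem good_of_simple (hs : IsSimpleGroup H) : Good p H := by
  by_cases hd : p ∣ Nat.card H
  · exact good_of_core (pPrimeCore_eq_bot_of_simple hs hd)
  · exact good_of_not_dvd hd hp.out

end Basic

/-! ### images -/

section Map

variable {G G' : Type*} [Group G] [Group G'] {p : ℕ}

theorem pElem_map_le (f : G →* G') (L : Subgroup G) :
    (PComponents.pElem p L).map f ≤ PComponents.pElem p (L.map f) := by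
  rw [Subgroup.map_le_iff_le_comap]
  refine (Subgroup.closure_le _).mpr ?_
  rintro y ⟨hy, n, hn⟩
  exact PComponents.mem_pElem (n := n) ⟨y, hy, rfl⟩ (by rw [← map_pow, hn, map_one])

theorem eq_bot_of_coprime_of_pElem [Finite G] {L : Subgroup G} (h : (Nat.card L).Coprime p)
    (hL : PComponents.pElem p L = L) : L = ⊥ := by
  rw [← hL, eq_bot_iff]
  refine (Subgroup.closure_le _).mpr ?_
  rintro y ⟨hy, n, hn⟩
  have h1 : (⟨y, hy⟩ : L) ^ Nat.card L = 1 := pow_card_eq_one'
  have h2 : y ^ Nat.card L = 1 := congrArg Subtype.val h1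
  have h3 : y ^ (Nat.card L).gcd (p ^ n) = 1 := pow_gcd_eq_one.mpr ⟨h2, hn⟩
  rw [Nat.Coprime.pow_right n h, pow_one] at h3
  rw [SetLike.mem_coe, mem_bot]
  exact h3

theorem map_core_le [Finite G] [Finite G'] {f : G →* G'} (hf : Function.Surjective f) :
    (pPrimeCore p G).map f ≤ pPrimeCore p G' := by
  refine Cores.le_pPrimeCore ?_ ?_
  · exact (Cores.pPrimeCore_normal p).map _ hf
  · exact (Cores.pPrimeCore_coprime p).coprime_dvd_left (Subgroup.card_map_dvd _ _)

variable [hp : Fact p.Prime]

/-- The image of a `p`-component under a surjective homomorphism is trivial or a `p`-component. -/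
theorem map_pcomp [Finite G] [Finite G'] {f : G →* G'} (hf : Function.Surjective f) {K : Subgroup G}
    (hK : IsPComponent p K) : K.map f = ⊥ ∨ IsPComponent p (K.map f) := by
  obtain ⟨h1, h2, h3⟩ := isPComponent_iff.mp hK
  have h4 : PComponents.pElem p (K.map f) = K.map f := by
    apply le_antisymm (PComponents.pElem_le _)
    conv_lhs => rw [← h3]
    exact pElem_map_le f K
  by_cases hb : K.map f = ⊥
  · exact Or.inl hb
  · right
    refine isPComponent_iff.mpr ⟨h1.map hf, ?_, h4⟩
    have hcore : pPrimeCore p ↥K ≤ (pPrimeCore p ↥(K.map f)).comap (f.subgroupMap K) := by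
      rw [← Subgroup.map_le_iff_le_comap]
      exact map_core_le (f.subgroupMap_surjective K)
    have := Cores.pPrimeCore_normal (G := ↥K) p
    have := Cores.pPrimeCore_normal (G := ↥(K.map f)) p
    let g : ↥K ⧸ pPrimeCore p ↥K →* ↥(K.map f) ⧸ pPrimeCore p ↥(K.map f) :=
      QuotientGroup.map _ _ (f.subgroupMap K) hcore
    have hg : Function.Surjective g := by
      intro y
      obtain ⟨y, rfl⟩ := QuotientGroup.mk'_surjective _ y
      obtain ⟨x, rfl⟩ := f.subgroupMap_surjective K y
      exact ⟨QuotientGroup.mk x, rfl⟩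
    refine ComponentImage.isQuasisimple_of_surjective h2 g hg ?_
    rw [← not_subsingleton_iff_nontrivial]
    intro hs
    rw [QuotientGroup.subsingleton_iff] at hs
    apply hb
    refine eq_bot_of_coprime_of_pElem (p := p) ?_ h4
    have h6 := Cores.pPrimeCore_coprime (G := ↥(K.map f)) p
    rw [hs, Nat.card_congr (Subgroup.topEquiv (G := ↥(K.map f))).toEquiv] at h6
    exact h6

theorem map_pLayer_le_of_surjective [Finite G] [Finite G'] {f : G →* G'} (hf : Function.Surjective f) :
    (pLayer p G).map f ≤ pLayer p G' := by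
  rw [Subgroup.map_le_iff_le_comap]
  refine sSup_le fun K hK => ?_
  rw [← Subgroup.map_le_iff_le_comap]
  rcases map_pcomp hf hK with h | h
  · rw [h]; exact bot_le
  · exact le_sSup h

/-- The basic step: a homomorphism onto a good group. -/
theorem Good.commutator_le_ker [Finite G] [Finite G'] (h : Good p G') {f : G →* G'}
    (hf : Function.Surjective f) : ⁅pLayer p G, pPrimeCore p G⁆ ≤ f.ker := by
  rw [← Subgroup.map_eq_bot_iff, Subgroup.map_commutator, eq_bot_iff, ← h]
  exact commutator_mono (map_pLayer_le_of_surjective hf) (map_core_le hf)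

/-- Homomorphisms onto good groups such that the intersection of the kernels centralises the `p`-layer. -/
theorem Good.of_family [Finite G] {ι : Type*} {Q : ι → Type*} [∀ i, Group (Q i)] [∀ i, Finite (Q i)]
    (f : ∀ i, G →* Q i) (hf : ∀ i, Function.Surjective (f i)) (hQ : ∀ i, Good p (Q i))
    (hker : (⨅ i, (f i).ker) ≤ centralizer (pLayer p G : Set G)) : Good p G := by
  have h1 : ⁅pPrimeCore p G, pLayer p G⁆ ≤ ⨅ i, (f i).ker := by
    rw [commutator_comm]
    exact le_iInf fun i => (hQ i).commutator_le_ker (hf i)
  unfold Good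
  rw [commutator_comm]
  exact commutator_pLayer_eq_bot (commutator_eq_bot_iff_le_centralizer.mpr (h1.trans hker))

/-- A quotient by a normal subgroup centralising the `p`-layer. -/
theorem Good.of_surjective [Finite G] [Finite G'] (h : Good p G') {f : G →* G'}
    (hf : Function.Surjective f) (hker : f.ker ≤ centralizer (pLayer p G : Set G)) : Good p G :=
  Good.of_family (fun _ : Unit => f) (fun _ => hf) (fun _ => h) (by rwa [iInf_unique])

/-- A central extension of a good group. -/
theorem Good.of_central [Finite G] {Z : Subgroup G} [Z.Normal] (h : Good p (G ⧸ Z)) (hZ : Z ≤ center G) :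
    Good p G := by
  refine h.of_surjective (QuotientGroup.mk'_surjective Z) ?_
  rw [QuotientGroup.ker_mk']
  exact hZ.trans (center_le_centralizer _)

theorem Good.congr [Finite G] [Finite G'] (h : Good p G) (e : G ≃* G') : Good p G' := by
  refine h.of_surjective (f := e.symm.toMonoidHom) e.symm.surjective ?_
  rw [(MonoidHom.ker_eq_bot_iff _).mpr e.symm.injective]
  exact bot_le

theorem good_congr [Finite G] [Finite G'] (e : G ≃* G') : Good p G ↔ Good p G' :=
  ⟨fun h => h.congr e, fun h => h.congr e.symm⟩

theorem Good.prod [Finite G] [Finite G'] (h : Good p G) (h' : Good p G') : Good p (G × G') := by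
  have h1 := h.commutator_le_ker (f := MonoidHom.fst G G') Prod.fst_surjective
  have h2 := h'.commutator_le_ker (f := MonoidHom.snd G G') Prod.snd_surjective
  unfold Good
  rw [eq_bot_iff]
  intro x hx
  exact Prod.ext (h1 hx) (h2 hx)

theorem Good.pi {ι : Type*} [Finite ι] {Q : ι → Type*} [∀ i, Group (Q i)] [∀ i, Finite (Q i)]
    (h : ∀ i, Good p (Q i)) : Good p (∀ i, Q i) := by
  refine Good.of_family (fun i => Pi.evalMonoidHom Q i) (fun i => Function.surjective_eval i) h ?_
  have h1 : (⨅ i, (Pi.evalMonoidHom Q i).ker) = ⊥ := by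
    rw [eq_bot_iff]
    intro x hx
    rw [mem_iInf] at hx
    funext i
    exact hx i
  rw [h1]
  exact bot_le

end Map

/-! ### normal subgroups -/

section Normal

variable {H : Type*} [Group H] [Finite H] {p : ℕ}

theorem core_inf_le {N : Subgroup H} (hN : N.IsSubnormal) {U : Subgroup H} (hU : U ≤ N)
    (hUn : (U.subgroupOf N).IsSubnormal) (hc : (Nat.card U).Coprime p) : U ≤ pPrimeCore p H := by
  have h1 : U.IsSubnormal := by
    have h2 := hUn.trans' hN
    rwa [subgroupOf_map_subtype, inf_of_le_left hU] at h2
  exact PComponents.le_pPrimeCore_of_isSubnormal h1 hc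

/-- The core of a subnormal subgroup. -/
theorem map_core_le_of_subnormal {N : Subgroup H} (hN : N.IsSubnormal) :
    (pPrimeCore p ↥N).map N.subtype ≤ pPrimeCore p H :=
  PComponents.map_pPrimeCore_le_of_isSubnormal hN

/-- `Good` is inherited by subnormal subgroups. -/
theorem Good.subnormal (h : Good p H) {N : Subgroup H} (hN : N.IsSubnormal) : Good p ↥N := by
  have h1 : (pLayer p ↥N).map N.subtype ≤ pLayer p H :=
    Schreier.KBalance.map_pLayer_le p N.subtype N.subtype_injective (by rwa [range_subtype])
  unfold Good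
  rw [← (Subgroup.map_eq_bot_iff_of_injective _ N.subtype_injective), Subgroup.map_commutator,
    eq_bot_iff, ← h]
  exact commutator_mono h1 (map_core_le_of_subnormal hN)

/-- A normal subgroup containing the `p`-layer. -/
theorem Good.of_normal {N : Subgroup H} (hN : N.Normal) (h : Good p ↥N) (hL : pLayer p H ≤ N) :
    Good p H := by
  have h1 : (pLayer p ↥N).map N.subtype = pLayer p H :=
    Schreier.KBalance.map_pLayer_eq p N.subtype N.subtype_injective
      (by rw [range_subtype]; exact hN.isSubnormal) (by rwa [range_subtype])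
  have hn := Cores.pPrimeCore_normal (G := H) p
  have hLn := ClassificationK.PCompTransport.pLayer_normal (G := H) p
  have h2 : ⁅pPrimeCore p H, pLayer p H⁆ ≤ (pPrimeCore p ↥N).map N.subtype := by
    have h3 : ⁅pPrimeCore p H, pLayer p H⁆ ≤ pPrimeCore p H ⊓ N :=
      le_inf (commutator_le_left _ _) ((commutator_le_right _ _).trans hL)
    intro x hx
    have hx' := h3 hx
    refine ⟨⟨x, hx'.2⟩, ?_, rfl⟩
    have h4 : (pPrimeCore p H).subgroupOf N ≤ pPrimeCore p ↥N := by
      refine Cores.le_pPrimeCore inferInstance ?_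
      refine (Cores.pPrimeCore_coprime (G := H) p).coprime_dvd_left ?_
      rw [← Nat.card_congr (((pPrimeCore p H).subgroupOf N).equivMapOfInjective _ N.subtype_injective).toEquiv.symm]
      refine card_dvd_of_le ?_
      rw [subgroupOf_map_subtype]
      exact inf_le_left
    exact h4 hx'.1
  unfold Good
  rw [commutator_comm]
  apply commutator_pLayer_eq_bot
  rw [eq_bot_iff]
  calc ⁅⁅pPrimeCore p H, pLayer p H⁆, pLayer p H⁆
      ≤ ⁅(pPrimeCore p ↥N).map N.subtype, (pLayer p ↥N).map N.subtype⁆ :=
        commutator_mono h2 h1.ge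
    _ = (⁅pPrimeCore p ↥N, pLayer p ↥N⁆).map N.subtype := (Subgroup.map_commutator _ _ _).symm
    _ = ⊥ := by
        rw [commutator_comm (pPrimeCore p ↥N), h, Subgroup.map_bot]
    _ ≤ ⊥ := le_rfl

/-- A perfect subgroup lies in every normal subgroup with solvable quotient. -/
theorem perfect_le_of_solvable {N : Subgroup H} [N.Normal] (hs : Group.IsSolvable (H ⧸ N)) {L : Subgroup H}
    (hL : ⁅L, L⁆ = L) : L ≤ N := by
  obtain ⟨n, hn⟩ := hs.solvable
  have h1 := map_derivedSeries_le_derivedSeries (QuotientGroup.mk' N) n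
  rw [hn, le_bot_iff, Subgroup.map_eq_bot_iff, QuotientGroup.ker_mk'] at h1
  refine le_trans ?_ h1
  clear h1 hn
  induction n with
  | zero => exact le_top
  | succ n ih =>
    rw [← hL, derivedSeries_succ]
    exact commutator_mono ih ih

theorem Good.of_solvable_quotient {N : Subgroup H} [hN : N.Normal] (h : Good p ↥N)
    (hs : Group.IsSolvable (H ⧸ N)) : Good p H :=
  Good.of_normal hN h (perfect_le_of_solvable hs pLayer_perfect)

end Normal

end Cfsg.Agent.BpTab
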