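import Cfsg.Prelude.Def_Classification2
import Cfsg.Agent.BpTab.Base
set_option linter.all false

/-!
# The rows of S1332

`Row p Fam` : `BpS p X` for every finite group `X` (in the universe `u`) of the family `Fam`; `Rows p` : the table;
`Rows.bps` : every known simple group satisfies `BpS p`. `BpS.congr` transports along an isomorphism, also between
universes.
-/

set_option autoImplicit false
set_option linter.unusedSectionVars false

namespace Cfsg.Agent.BpTab

open Subgroup Cfsg

universe u v w

/-- transport of the row property -/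
theorem BpS.congr {p : ℕ} [Fact p.Prime] {K : Type v} {K' : Type w} [Group K] [Group K'] [Finite K] (h : BpS p K)
    (e : K ≃* K') : BpS p K' := by
  have : Finite K' := Finite.of_equiv K e.toEquiv
  intro x hx
  let y : MulAut K := (MulAut.congr e).symm x
  have hy : orderOf y = p := by
    rw [← hx]
    exact orderOf_injective (MulAut.congr e).symm.toMonoidHom (MulAut.congr e).symm.injective x
  have key : ∀ k : K, e (y k) = x (e k) := by
    intro k
    change e (e.symm (x (e k))) = x (e k)
    exact e.apply_symm_apply _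
  let f : ↥(fixedSubgroup y) ≃* ↥(fixedSubgroup x) :=
    { toFun := fun k => ⟨e k.1, by
        change x (e k.1) = e k.1
        rw [← key, show y k.1 = k.1 from k.2]⟩
      invFun := fun k => ⟨e.symm k.1, by
        change y (e.symm k.1) = e.symm k.1
        apply e.injective
        rw [key, e.apply_symm_apply, show x k.1 = k.1 from k.2]⟩
      left_inv := fun k => Subtype.ext (e.symm_apply_apply _)
      right_inv := fun k => Subtype.ext (e.apply_symm_apply _)
      map_mul' := fun a b => Subtype.ext (map_mul e _ _) }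
  exact (h y hy).congr f

/-- A row: `BpS p` for a whole family. -/
def Row (p : ℕ) (Fam : ∀ (X : Type u) [Group X], Prop) : Prop :=
  ∀ (X : Type u) [Group X] [Finite X], Fam X → BpS p X

/-- The table of S1332 for the prime `p`. -/
structure Rows (p : ℕ) : Prop where
  alt : Row.{u} p fun X _ => IsAlternating X
  psl : Row.{u} p fun X _ => IsPSL X
  psp : Row.{u} p fun X _ => IsPSp X
  psu : Row.{u} p fun X _ => IsPSU X
  omegaOdd : Row.{u} p fun X _ => IsPOmegaOdd X
  omegaPlus : Row.{u} p fun X _ => IsPOmegaPlus X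
  omegaMinus : Row.{u} p fun X _ => IsPOmegaMinus X
  g2 : Row.{u} p fun X _ => Lie.IsoChevG2 X
  f4 : Row.{u} p fun X _ => Lie.IsoF4 X
  e6 : Row.{u} p fun X _ => Lie.IsoChevE6 X
  e7 : Row.{u} p fun X _ => Lie.IsoE7 X
  e8 : Row.{u} p fun X _ => Lie.IsoE8 X
  twE6 : Row.{u} p fun X _ => Lie.Iso2E6 X
  triD4 : Row.{u} p fun X _ => Lie.Iso3D4 X
  sz : Row.{u} p fun X _ => Lie.IsoSuzuki X
  ree : Row.{u} p fun X _ => Lie.IsoRee X
  twF4 : Row.{u} p fun X _ => Lie.Iso2F4 X
  tits : Row.{u} p fun X _ => Lie.IsoTits X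
  m11 : Row.{u} p fun X _ => Spor.IsoM11 X
  m12 : Row.{u} p fun X _ => Spor.IsoM12 X
  m22 : Row.{u} p fun X _ => Spor.IsoM22 X
  m23 : Row.{u} p fun X _ => Spor.IsoM23 X
  m24 : Row.{u} p fun X _ => Spor.IsoM24 X
  j1 : Row.{u} p fun X _ => Spor.IsoJ1 X
  j2 : Row.{u} p fun X _ => Spor.IsoJ2 X
  j3 : Row.{u} p fun X _ => Spor.IsoJ3 X
  j4 : Row.{u} p fun X _ => Spor.IsoJ4 X
  co1 : Row.{u} p fun X _ => Spor.IsoCo1 X
  co2 : Row.{u} p fun X _ => Spor.IsoCo2 X
  co3 : Row.{u} p fun X _ => Spor.IsoCo3 X
  mcl : Row.{u} p fun X _ => Spor.IsoMcL X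
  hs : Row.{u} p fun X _ => Spor.IsoHS X
  suz : Row.{u} p fun X _ => Spor.IsoSuz X
  he : Row.{u} p fun X _ => Spor.IsoHe X
  ru : Row.{u} p fun X _ => Spor.IsoRu X
  on : Row.{u} p fun X _ => Spor.IsoON X
  ly : Row.{u} p fun X _ => Spor.IsoLy X
  fi22 : Row.{u} p fun X _ => Spor.IsoFi22 X
  fi23 : Row.{u} p fun X _ => Spor.IsoFi23 X
  fi24 : Row.{u} p fun X _ => Spor.IsoFi24' X
  hn : Row.{u} p fun X _ => Spor.IsoHN X
  th : Row.{u} p fun X _ => Spor.IsoTh X
  b : Row.{u} p fun X _ => Spor.IsoB X
  m : Row.{u} p fun X _ => Spor.IsoM X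

theorem BpS.of_solvable {p : ℕ} {K : Type u} [Group K] [Finite K] (h : Group.IsSolvable K) : BpS p K := by
  intro x _
  refine good_of_solvable ?_
  exact Group.isSolvable_of_isSolvable_injective (f := (fixedSubgroup x).subtype) Subtype.val_injective

/-- a group of prime order -/
theorem BpS.of_prime {p : ℕ} {K : Type u} [Group K] [Finite K] (h : (Nat.card K).Prime) : BpS p K := by
  have : Fact (Nat.card K).Prime := ⟨h⟩
  have : IsCyclic K := isCyclic_of_prime_card rfl
  refine BpS.of_solvable ?_
  exact Group.isSolvable_of_comm fun a b => IsMulCommutative.is_comm.comm a b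

/-- every known simple group satisfies the row property -/
theorem Rows.bps {p : ℕ} (R : Rows.{u} p) {X : Type u} [Group X] [Finite X] (h : IsKnownSimple' X) : BpS p X := by
  rcases h with h | h | h | h | h | h | h | h | h | h
  · exact BpS.of_prime h
  · exact R.alt X h
  · exact R.psl X h
  · exact R.psp X h
  · exact R.psu X h
  · exact R.omegaOdd X h
  · exact R.omegaPlus X h
  · exact R.omegaMinus X h
  · rcases h with h | h | h | h | h | h | h | h | h | h | h
    · exact R.g2 X h
    · exact R.f4 X h
    · exact R.e6 X h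
    · exact R.e7 X h
    · exact R.e8 X h
    · exact R.twE6 X h
    · exact R.triD4 X h
    · exact R.sz X h
    · exact R.ree X h
    · exact R.twF4 X h
    · exact R.tits X h
  · rcases h with h | h | h | h | h | h | h | h | h | h | h | h | h | h | h | h | h | h | h | h | h | h | h | h | h | h
    · exact R.m11 X h
    · exact R.m12 X h
    · exact R.m22 X h
    · exact R.m23 X h
    · exact R.m24 X h
    · exact R.j1 X h
    · exact R.j2 X h
    · exact R.j3 X h
    · exact R.j4 X h
    · exact R.co1 X h
    · exact R.co2 X h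
    · exact R.co3 X h
    · exact R.mcl X h
    · exact R.hs X h
    · exact R.suz X h
    · exact R.he X h
    · exact R.ru X h
    · exact R.on X h
    · exact R.ly X h
    · exact R.fi22 X h
    · exact R.fi23 X h
    · exact R.fi24 X h
    · exact R.hn X h
    · exact R.th X h
    · exact R.b X h
    · exact R.m X h

end Cfsg.Agent.BpTab
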