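import Cfsg.Agent.BpSpor.RowTool
import Cfsg.Agent.BpSpor.MFiveAbs
import Cfsg.Agent.BpSpor.Cen
import Cfsg.Agent.S0205
import Mathlib
import Cfsg.Agent.Lib.NormalAbelian
import Cfsg.Agent.H799.PiBS.Suz
import Cfsg.Agent.BpAlt.Row
import Cfsg.Agent.LThreeFi22.Inst
import Cfsg.Agent.LThreeFi22.Comp
import Cfsg.Agent.CpAutFiFive.Fi22
import Cfsg.Agent.KFacts.FiTT.Final
import Cfsg.Agent.H341.ThreeList_m3
import Cfsg.Agent.CpAut.SmallP.TwoPart
import Cfsg.Agent.CpAut.SmallP.Inn
import Cfsg.Agent.KFacts.He.Outer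
import Cfsg.Agent.KFacts.J2.SheetX
import Cfsg.Agent.S1620
import Cfsg.Agent.S1619
import Cfsg.Agent.CpAut.SmallP.RowMcL
import Cfsg.Agent.BpSpor.RowAll
import Cfsg.Agent.CpAut.SporThree.McL
import Cfsg.Agent.BpMon.Thirteen
import Cfsg.Agent.MThirteen.TwoA
import Cfsg.Agent.LThreeMB.CoOneFin
import Cfsg.Agent.CpAutBFive.Final
import Cfsg.Agent.OrdDiv.Table
import Cfsg.Agent.BpSpor.JFourThree
import Cfsg.Agent.CpAutJThree.Row
import Cfsg.Agent.KFacts.MM.OutC_m3
import Cfsg.Agent.CpAutJ4.Row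
import Cfsg.Agent.H866.ONFive
import Cfsg.Agent.BpSpor.CoThreeCent
import Cfsg.Agent.BpSpor.CoThreeTF
import Cfsg.Agent.BpSpor.Row.Co3
import Cfsg.Agent.BpSpor.FiTThFive
import Cfsg.Agent.SporRec.Co3.FiveHom
import Cfsg.Agent.BpSpor.Row.Fi24
import Cfsg.Agent.H841.Phi_m3
import Cfsg.Agent.S1698
import Cfsg.Agent.CpAutFiSeven.None
import Cfsg.Agent.BpSpor.HNThree
import Cfsg.Agent.CpAutHN.Main
import Cfsg.Agent.BpSpor.HNFiveQD
import Cfsg.Agent.S0204
import Cfsg.Agent.BpSpor.HSInv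
import Cfsg.Agent.BpSpor.Row.HS
import Cfsg.Agent.BpSpor.HeThree
import Cfsg.Agent.BpSpor.Row.He
import Cfsg.Agent.BpSpor.Row.J2
import Cfsg.Agent.CpAutTThree.JTwo
import Cfsg.Agent.BpSpor.Row.Ru
import Cfsg.Agent.CpAutRuFive.Main
import Cfsg.Agent.RuLat.Main
import Cfsg.Agent.BpSpor.CoThreeFive
import Cfsg.Agent.H403.TitsSixteen
import Cfsg.Agent.BpSpor.RuThreeC
import Cfsg.Agent.CTwoTab.Ru
import Cfsg.Agent.CpAut.LyFiveRow
import Cfsg.Agent.BpSpor.BThreeZero
import Cfsg.Agent.BpSpor.BFiveZero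
import Cfsg.Agent.BpSpor.Row.M
import Cfsg.Agent.LThreeB.Asm
import Cfsg.Agent.LThreeMB.Row
import Cfsg.Agent.MFive.Fus
import Cfsg.Agent.MFiveHN.Inst
import Cfsg.Agent.LThreeCo1.Ranks
import Cfsg.Agent.CoFive.Ranks
import Cfsg.Agent.CoFiveC.Row
import Cfsg.Agent.BpSpor.CoOneSeven
import Cfsg.Agent.MFive.JTwo
import Cfsg.Agent.LThreeB.FromM
import Cfsg.Agent.BpTab.Base
import Cfsg.Agent.BpSpor.BFiveAsm
import Cfsg.Agent.CpAutBFive.RowB
import Cfsg.Agent.LThreeM.FiRow_mg
import Cfsg.Agent.LThreeB.Row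
import Cfsg.Agent.LThreeMB.COct
import Cfsg.Agent.BpSpor.SuzFiveA
import Cfsg.Agent.BpSpor.Row.Tits_m3
import Cfsg.Agent.CTwoTab.Suz
import Cfsg.Agent.BpSpor.ThThree
import Cfsg.Agent.KFacts.Th.Main
import Cfsg.Agent.MonsterX.ThOneClass
import Cfsg.Agent.CpAutLy.Row
import Cfsg.Agent.BpSpor.PairList
import Cfsg.Agent.BpSpor.ONanThree
import Cfsg.Agent.BpSpor.CoTwoRow
import Cfsg.Agent.BpSpor.CoTwoFive
import Cfsg.Agent.LThreeFi24N.GoodD
import Cfsg.Agent.BpSpor.MFiveHA
import Cfsg.Agent.BpRankZero.MRow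
import Cfsg.Agent.CpAutMSeven.SixRow_m3
import Cfsg.Agent.BpMon.BSeven
import Cfsg.Agent.H546.MElevenB_m3
import Cfsg.Agent.H237.EvenFi
import Cfsg.Agent.MThirteen.FiveRow
import Cfsg.Agent.PreUniq.Fi24Row
import Cfsg.Agent.LThreeFi24.EmptyAbs
import Cfsg.Agent.LThreeFi24.EmptyDat
import Cfsg.Agent.FastGrp
import Cfsg.Agent.Prune
set_option linter.all false
prune_inst 0x7fbcfefbaff8addfffff7e7fffbddffe39d4dfffefdff94bfffcfbffafdf230e2be5fb8f8de058fc0ed6e23410b87853f9ffe67fe36bdc7ffffd5ff45ffbee1fe5ffbf0d51f6b8341ffc6ffffbf17f8e7f3fffffffffffffffffffffffffffbeffffffffffff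
open scoped Cfsg.Agent.FastGrp

-- part: BpSpor/BdRow
section
/-!
# The row `BpS p X` from the orders of `C(t) ∩ C(x)`, `t` an involution (helper22)
-/

set_option autoImplicit false

namespace Cfsg.Agent.BpSpor.BdRow

open Subgroup Cfsg Cfsg.Agent.BpTab

theorem good_of_bd {X : Type*} [Group X] [Finite X] {p : ℕ} [hp : Fact p.Prime] (hp2 : p ≠ 2)
    (h : ∀ t : X, orderOf t = 2 → Cen.Bd p t) {g : X} (hg : orderOf g = p) :
    Good p ↥(centralizer ({g} : Set X)) := by
  refine Inv.good_of_inv (fun K _ _ hK => Cfsg.Agent.S0205.result hK) (Cen.not_dvd_of_bd hp.out hp2 hg h)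
    fun t ht q hq hqd => ?_
  have h1 : orderOf (t : X) = 2 := by rw [Subgroup.orderOf_coe]; exact ht
  have h2 : g * (t : X) = t * g := (mem_centralizer_singleton_iff.1 t.2).symm
  obtain ⟨n, hn⟩ := h _ h1 g hg h2
  rw [Cen.card_cent_sub] at hqd
  have h3 : q ∣ 2 ^ 5 * p ^ n := hqd.trans hn
  rcases hq.dvd_mul.1 h3 with h4 | h4
  · exact Or.inl ((Nat.prime_dvd_prime_iff_eq hq Nat.prime_two).1 (hq.dvd_of_dvd_pow h4))
  · exact Or.inr ((Nat.prime_dvd_prime_iff_eq hq hp.out).1 (hq.dvd_of_dvd_pow h4))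

theorem bps_of_bd {X : Type*} [Group X] [Finite X] {p : ℕ} [hp : Fact p.Prime] (hp2 : p ≠ 2) (hc : center X = ⊥)
    (hi : CpAut.AutInner p X) (h : ∀ t : X, orderOf t = 2 → Cen.Bd p t) : BpS p X :=
  RowTool.bps_of_inner hc hi fun _ hg => good_of_bd hp2 h hg

end Cfsg.Agent.BpSpor.BdRow
end

-- part: BpSpor/FiTTThree
section
-- merged: Cfsg.Agent.BpSpor.TwoIdx
section

/-!
# A bound for the 2-part of a centralizer (helper36)

`not_dvd` : `z` an involution with a normal 2-subgroup `R` of `C(z)` on which no element of odd order acts trivially,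
`Z(S) ≤ {1, z}` for the Sylow 2-subgroups `S ≤ C(z)`, `C(z)` of odd index: if `x ≠ 1` has odd order then `|C(x)|` is not divisible
by `|G|_2 / 2`.
-/

set_option autoImplicit false

namespace Cfsg.Agent.BpSpor.TwoIdx

open Subgroup

universe u

section

variable {G : Type u} [Group G] [Finite G]

omit [Finite G] in
/-- the chain argument: `x` of odd order, `x` commutes with a subset of index two -/
theorem comm_of_index_two {x q : G} {T : Subgroup G} (ho : Odd (orderOf x)) (hT : ∀ t ∈ T, x * t = t * x)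
    (hT2 : IsPGroup 2 ↥T) (h : q⁻¹ * (x * q * x⁻¹) ∈ T) : x * q = q * x := by
  set r := q⁻¹ * (x * q * x⁻¹) with hr
  have h1 : x * q * x⁻¹ = q * r := by rw [hr]; group
  have h2 : ∀ m : ℕ, x ^ m * q * (x ^ m)⁻¹ = q * r ^ m := by
    intro m
    induction m with
    | zero => simp
    | succ m ih =>
      have h3 : x * r ^ m * x⁻¹ = r ^ m := by
        rw [hT _ (T.pow_mem h m)]
        group
      calc x ^ (m + 1) * q * (x ^ (m + 1))⁻¹ = x * (x ^ m * q * (x ^ m)⁻¹) * x⁻¹ := by
            rw [pow_succ']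
            group
        _ = x * q * x⁻¹ * (x * r ^ m * x⁻¹) := by rw [ih]; group
        _ = q * r ^ (m + 1) := by rw [h3, h1, pow_succ', mul_assoc]
  have h3 := h2 (orderOf x)
  rw [pow_orderOf_eq_one, one_mul, inv_one, mul_one, left_eq_mul] at h3
  obtain ⟨k, hk⟩ := hT2 ⟨r, h⟩
  have hk' : r ^ 2 ^ k = 1 := congrArg Subtype.val hk
  have h4 : orderOf r = 1 := by
    have h5 : orderOf r ∣ orderOf x := orderOf_dvd_of_pow_eq_one h3
    have h6 : orderOf r ∣ 2 ^ k := orderOf_dvd_of_pow_eq_one hk'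
    have h7 : Nat.Coprime (2 ^ k) (orderOf x) := Nat.Coprime.pow_left _ (Nat.coprime_two_left.2 ho)
    exact Nat.eq_one_of_dvd_coprimes h7 h6 h5
  rw [orderOf_eq_one_iff] at h4
  rw [h4, mul_one] at h1
  rwa [mul_inv_eq_iff_eq_mul] at h1

variable {z : G} {R : Subgroup G} (hRz : ∀ x ∈ R, x * z = z * x) (hR2 : IsPGroup 2 ↥R)
  (hRn : ∀ g : G, g * z = z * g → ∀ x ∈ R, g * x * g⁻¹ ∈ R)
  (hRc : ∀ x : G, Odd (orderOf x) → (∀ y ∈ R, x * y = y * x) → x = 1)
  (hodd : Odd (centralizer ({z} : Set G)).index)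
  (hS : ∀ S : Sylow 2 G, (S : Subgroup G) ≤ centralizer ({z} : Set G) →
    ∀ x ∈ S, (∀ y ∈ S, x * y = y * x) → x = 1 ∨ x = z)
include hRz hR2 hRn hRc hodd hS

theorem not_dvd {n : ℕ} (hn : 1 ≤ n) (hN : ¬ 2 ^ (n + 2) ∣ Nat.card G) {x : G} (ho : Odd (orderOf x)) (hx : x ≠ 1) :
    ¬ 2 ^ n ∣ Nat.card ↥(centralizer ({x} : Set G)) := by
  intro hd
  have : Fact (Nat.Prime 2) := ⟨Nat.prime_two⟩
  -- a Sylow 2-subgroup of `C(z)` is a Sylow 2-subgroup of `G`
  obtain ⟨S1, hS1⟩ : ∃ S : Sylow 2 G, (S : Subgroup G) ≤ centralizer ({z} : Set G) := by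
    let P : Sylow 2 ↥(centralizer ({z} : Set G)) := default
    have h1 : IsPGroup 2 ↥((P : Subgroup ↥(centralizer ({z} : Set G))).map (centralizer ({z} : Set G)).subtype) :=
      P.2.map _
    obtain ⟨Q, hQ⟩ := h1.exists_le_sylow
    refine ⟨Q, ?_⟩
    have h2 : Nat.card ↥((P : Subgroup ↥(centralizer ({z} : Set G))).map (centralizer ({z} : Set G)).subtype) =
        Nat.card (P : Subgroup ↥(centralizer ({z} : Set G))) :=
      card_map_of_injective (Subgroup.subtype_injective _)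
    have h3 : (P : Subgroup ↥(centralizer ({z} : Set G))).map (centralizer ({z} : Set G)).subtype = Q := by
      apply Subgroup.eq_of_le_of_card_ge hQ
      rw [h2]
      have h4 : Nat.card (Q : Subgroup G) ∣ Nat.card ↥(centralizer ({z} : Set G)) := by
        obtain ⟨k, hk⟩ := (IsPGroup.iff_card (p := 2)).1 Q.2
        have h5 : Nat.card (Q : Subgroup G) ∣ Nat.card ↥(centralizer ({z} : Set G)) *
            (centralizer ({z} : Set G)).index := by
          rw [card_mul_index]
          exact card_subgroup_dvd_card _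
        refine Nat.Coprime.dvd_of_dvd_mul_right ?_ h5
        rw [hk]
        exact Nat.Coprime.pow_left _ (Nat.coprime_two_left.2 hodd)
      obtain ⟨k, hk⟩ := (IsPGroup.iff_card (p := 2)).1 Q.2
      rw [hk] at h4 ⊢
      exact Nat.le_of_dvd Nat.card_pos (P.pow_dvd_card_of_pow_dvd_card h4)
    rw [← h3]
    exact map_subtype_le _
  -- a conjugate of `x` commutes with a subgroup of index at most two of `S1`
  obtain ⟨x1, T1, ho1, hx1, hT1, hTS, hTc⟩ : ∃ (x1 : G) (T : Subgroup G), Odd (orderOf x1) ∧ x1 ≠ 1 ∧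
      (∀ t ∈ T, x1 * t = t * x1) ∧ T ≤ S1 ∧ 2 ^ n ≤ Nat.card ↥T := by
    let P : Sylow 2 ↥(centralizer ({x} : Set G)) := default
    have h1 : IsPGroup 2 ↥((P : Subgroup ↥(centralizer ({x} : Set G))).map (centralizer ({x} : Set G)).subtype) :=
      P.2.map _
    have h2 : Nat.card ↥((P : Subgroup ↥(centralizer ({x} : Set G))).map (centralizer ({x} : Set G)).subtype) =
        Nat.card (P : Subgroup ↥(centralizer ({x} : Set G))) :=
      card_map_of_injective (Subgroup.subtype_injective _)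
    obtain ⟨Q, hQ⟩ := h1.exists_le_sylow
    obtain ⟨g, hg⟩ := MulAction.exists_smul_eq G Q S1
    refine ⟨g * x * g⁻¹, ((P : Subgroup ↥(centralizer ({x} : Set G))).map
      (centralizer ({x} : Set G)).subtype).map (MulAut.conj g).toMonoidHom, ?_, ?_, ?_, ?_, ?_⟩
    · have : orderOf (g * x * g⁻¹) = orderOf x :=
        orderOf_injective (MulAut.conj g).toMonoidHom (MulAut.conj g).injective x
      rwa [this]
    · intro h
      apply hx
      have := congrArg (fun y => g⁻¹ * y * g) h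
      simpa [mul_assoc] using this
    · rintro _ ⟨_, ⟨t, ht, rfl⟩, rfl⟩
      have ht' : (t : G) * x = x * t := mem_centralizer_singleton_iff.1 t.2
      change g * x * g⁻¹ * (g * (t : G) * g⁻¹) = g * (t : G) * g⁻¹ * (g * x * g⁻¹)
      calc g * x * g⁻¹ * (g * (t : G) * g⁻¹) = g * (x * t) * g⁻¹ := by group
        _ = g * (t * x) * g⁻¹ := by rw [ht']
        _ = g * (t : G) * g⁻¹ * (g * x * g⁻¹) := by group
    · rw [← hg]
      rintro _ ⟨t, ht, rfl⟩
      exact ⟨t, hQ ht, rfl⟩
    · rw [card_map_of_injective (MulAut.conj g).injective, h2]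
      exact Nat.le_of_dvd Nat.card_pos (P.pow_dvd_card_of_pow_dvd_card hd)
  -- the index
  have hS1c : Nat.card (S1 : Subgroup G) ≤ 2 ^ (n + 1) := by
    obtain ⟨k, hk⟩ := (IsPGroup.iff_card (p := 2)).1 S1.2
    rw [hk]
    apply Nat.pow_le_pow_right (by norm_num)
    by_contra hlt
    push Not at hlt
    apply hN
    refine (pow_dvd_pow 2 (show n + 2 ≤ k by omega)).trans ?_
    rw [← hk]
    exact card_subgroup_dvd_card _
  have hmul : T1.relIndex S1 * Nat.card ↥T1 = Nat.card (S1 : Subgroup G) := by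
    have h := card_mul_index (T1.subgroupOf S1)
    rw [Nat.card_congr (subgroupOfEquivOfLe hTS).toEquiv, mul_comm] at h
    exact h
  have hidx : T1.relIndex S1 ≤ 2 := by
    have h1 := hmul
    have h2 : T1.relIndex S1 * 2 ^ n ≤ 2 * 2 ^ n := by
      calc T1.relIndex S1 * 2 ^ n ≤ T1.relIndex S1 * Nat.card ↥T1 := Nat.mul_le_mul_left _ hTc
        _ = Nat.card (S1 : Subgroup G) := h1
        _ ≤ 2 ^ (n + 1) := hS1c
        _ = 2 * 2 ^ n := by rw [pow_succ']
    exact Nat.le_of_mul_le_mul_right h2 (by positivity)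
  have hidx0 : T1.relIndex S1 ≠ 0 := by
    intro h
    have h1 := hmul
    rw [h, zero_mul] at h1
    exact (Nat.card_pos (α := (S1 : Subgroup G))).ne h1
  have hT2 : IsPGroup 2 ↥T1 := S1.2.to_le hTS
  -- products of two elements outside `T1`
  have hout : ∀ a ∈ S1, ∀ b ∈ S1, a ∉ T1 → b ∉ T1 → a⁻¹ * b ∈ T1 := by
    intro a ha b hb ha' hb'
    have h2 : (T1.subgroupOf S1).index = 2 := by
      have h3 : (T1.subgroupOf S1).index ≤ 2 := hidx
      have h4 : (T1.subgroupOf S1).index ≠ 0 := hidx0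
      have h5 : (T1.subgroupOf S1).index ≠ 1 := by
        intro h
        rw [index_eq_one] at h
        apply ha'
        have : (⟨a, ha⟩ : ↥(S1 : Subgroup G)) ∈ T1.subgroupOf S1 := h ▸ mem_top _
        exact this
      omega
    have h3 := (mul_mem_iff_of_index_two h2 (a := (⟨a, ha⟩ : ↥(S1 : Subgroup G))⁻¹) (b := ⟨b, hb⟩)).2 (by
      constructor
      · intro h
        exact absurd (show a ∈ T1 from (inv_mem_iff (H := T1.subgroupOf S1)).1 h) ha'
      · intro h
        exact absurd (show b ∈ T1 from h) hb')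
    exact h3
  have hnorm : (T1.subgroupOf S1).Normal := by
    rcases Nat.lt_or_ge (T1.subgroupOf S1).index 2 with h | h
    · have h0 : (T1.subgroupOf S1).index ≠ 0 := hidx0
      have h1 : (T1.subgroupOf S1).index = 1 := by omega
      rw [index_eq_one] at h1
      rw [h1]
      infer_instance
    · exact normal_of_index_eq_two (le_antisymm hidx h)
  -- `z ∈ T1`
  have hz : z ∈ T1 := by
    have hnil : Group.IsNilpotent ↥(S1 : Subgroup G) := S1.2.isNilpotent
    have hne : T1.subgroupOf S1 ≠ ⊥ := by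
      intro h
      rw [subgroupOf_eq_bot, disjoint_iff, inf_eq_left.2 hTS] at h
      rw [h, card_bot] at hTc
      have : 2 ^ 1 ≤ 2 ^ n := Nat.pow_le_pow_right (by norm_num) hn
      omega
    have h1 := Lib.NormalAbelian.normal_inf_center_ne_bot (T1.subgroupOf S1) hne
    obtain ⟨⟨y, hy⟩, hy0⟩ := Subgroup.ne_bot_iff_exists_ne_one.1 h1
    have hy1 : y ≠ 1 := fun h => hy0 (Subtype.ext h)
    have h2 := hS S1 hS1 y y.2 (fun w hw => congrArg Subtype.val (mem_center_iff.1 hy.2 ⟨w, hw⟩).symm)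
    rcases h2 with h2 | h2
    · exact absurd (Subtype.ext h2) hy1
    · rw [← h2]
      exact hy.1
  -- `R ≤ S1`
  have hRS : R ≤ S1 := by
    have hRC : R ≤ centralizer ({z} : Set G) := fun r hr => mem_centralizer_singleton_iff.2 (hRz r hr)
    have hN' : (R.subgroupOf (centralizer ({z} : Set G))).Normal := by
      constructor
      intro r hr g
      exact hRn g (mem_centralizer_singleton_iff.1 g.2) r hr
    have h1 : IsPGroup 2 ↥(R.subgroupOf (centralizer ({z} : Set G))) :=
      hR2.of_equiv (subgroupOfEquivOfLe hRC).symm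
    have h2 := h1.le_sylow_of_normal (S1.subtype hS1)
    intro r hr
    exact h2 (x := ⟨r, hRC hr⟩) hr
  have hxz : x1 * z = z * x1 := hT1 z hz
  apply hx1
  apply hRc x1 ho1
  intro q hq
  by_cases hqT : q ∈ T1
  · exact hT1 q hqT
  · apply comm_of_index_two (T := T1) ho1 hT1 hT2
    have h1 : x1 * q * x1⁻¹ ∈ R := hRn x1 hxz q hq
    apply hout q (hRS hq) _ (hRS h1) hqT
    intro h2
    apply hqT
    have h3 := hT1 _ h2
    have h4 : q = x1 * q * x1⁻¹ := by
      have h5 : x1 * (x1 * q * x1⁻¹) * x1⁻¹ = x1 * q * x1⁻¹ := by rw [h3]; group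
      have h6 : x1⁻¹ * (x1 * (x1 * q * x1⁻¹) * x1⁻¹) * x1 = x1⁻¹ * (x1 * q * x1⁻¹) * x1 := by rw [h5]
      have h7 : x1⁻¹ * (x1 * (x1 * q * x1⁻¹) * x1⁻¹) * x1 = x1 * q * x1⁻¹ := by group
      have h8 : x1⁻¹ * (x1 * q * x1⁻¹) * x1 = q := by group
      rw [h7, h8] at h6
      exact h6.symm
    rw [h4]
    exact h2

end

end Cfsg.Agent.BpSpor.TwoIdx

end

-- merged: Cfsg.Agent.BpSpor.FiTTThree
section

/-!
# S1332, row `(Fi22, 3)` (helper36)

* `x = a b`, `a`, `b` noncommuting transpositions: `|C(x)| = 2^8 3^7 5 7`, the components `K` have `81 ∣ |K/Z(K)|`, so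
  `64 ∣ |K/Z(K)|` and there is no room for a nontrivial action;
* otherwise `|C(x)|` divides `2^17 3^9 13`, the only simple section is `L_3(3)`, which needs `2^16 ∣ |C(x)|`, impossible since
  `Z(S) = ⟨z⟩`, `C(z)` large.
-/

set_option autoImplicit false

namespace Cfsg.Agent.BpSpor.FiTT

open Subgroup Cfsg Cfsg.Agent.BpTab Cfsg.Agent.OrdDiv
open Cfsg.Agent.LThreeFi22

universe u

/-- the classification for finite simple groups in `Type` -/
abbrev Known : Prop := ∀ (G : Type) [Group G] [Finite G] [IsSimpleGroup G], IsKnownSimple' G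

/-- `13 ∣ |GL_d(2)|` implies `d ≥ 12` -/
theorem twelve_le {d M : ℕ} (h : 13 ∣ 2 ^ M * ∏ i : Fin d, (2 ^ d - 2 ^ (i : ℕ))) : 12 ≤ d := by
  have : Fact (Nat.Prime 13) := ⟨by norm_num⟩
  have h13 : Nat.Prime 13 := by norm_num
  rcases h13.dvd_mul.1 h with h | h
  · exact absurd (h13.dvd_of_dvd_pow h) (by norm_num)
  · obtain ⟨m, hm1, hmd, hm⟩ := exists_pow_sub_one (p := 13) Nat.prime_two (by norm_num) h
    by_contra hlt
    have : m < 12 := by omega
    interval_cases m <;> revert hm <;> decide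

theorem eq_two_of_sq {r N : ℕ} (hr : r.Prime) (hr3 : r ≠ 3) (h : r ^ 2 ∣ N) {a b c : ℕ}
    (hN : N ∣ 2 ^ a * 3 ^ b * c) (hc : ∀ q : ℕ, q.Prime → ¬ q ^ 2 ∣ c) : r = 2 := by
  by_contra hr2
  have h1 : Nat.Coprime (r ^ 2) (2 ^ a) := Nat.Coprime.pow _ _ ((Nat.coprime_primes hr Nat.prime_two).2 hr2)
  have h2 : Nat.Coprime (r ^ 2) (3 ^ b) := Nat.Coprime.pow _ _ ((Nat.coprime_primes hr Nat.prime_three).2 hr3)
  exact hc r hr ((h1.mul_right h2).dvd_of_dvd_mul_left (h.trans hN))

section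

variable {K : Type} [Group K] {T : Set K} (C : Ctx K T)
include C

/-- elements of type 3A -/
theorem good_three_a (Tb : OrderTable.{0}) (hS : Known) {x : K} (hx : orderOf x = 3) (h3 : Is3A T x) :
    Good 3 ↥(centralizer ({x} : Set K)) := by
  have hfin := C.finite
  have : Fact (Nat.Prime 3) := ⟨Nat.prime_three⟩
  have hcard : Nat.card ↥(centralizer ({x} : Set K)) = 19595520 := by
    obtain ⟨a, ha, b, hb, hab, rfl⟩ := h3
    exact C.card_three ha hb hab
  have hcent : ∀ (r : ℕ) (y : ↥(centralizer ({x} : Set K))), r = 5 ∨ r = 7 → orderOf y = r →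
      ¬ 9 ∣ Nat.card ↥(centralizer ({y} : Set ↥(centralizer ({x} : Set K)))) := by
    intro r y hr hy h9
    have h1 : Nat.card ↥(centralizer ({y} : Set ↥(centralizer ({x} : Set K)))) ∣
        Nat.card ↥(centralizer ({(y : K)} : Set K)) := by
      have h2 : Nat.card ↥(centralizer ({y} : Set ↥(centralizer ({x} : Set K)))) =
          Nat.card ↥((centralizer ({y} : Set ↥(centralizer ({x} : Set K)))).map
            (centralizer ({x} : Set K)).subtype) := (card_map_of_injective (Subgroup.subtype_injective _)).symm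
      rw [h2]
      apply card_dvd_of_le
      rintro _ ⟨g, hg, rfl⟩
      rw [mem_centralizer_singleton_iff]
      rw [SetLike.mem_coe, mem_centralizer_singleton_iff] at hg
      exact congrArg Subtype.val hg
    have hy1 : (y : K) ≠ 1 := by
      intro h
      have : y = 1 := Subtype.ext h
      rw [this, orderOf_one] at hy
      rcases hr with rfl | rfl <;> norm_num at hy
    have hyr : (y : K) ^ r = 1 := by
      have : y ^ r = 1 := by rw [← hy, pow_orderOf_eq_one]
      exact congrArg Subtype.val this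
    rcases hr with rfl | rfl
    · exact C.nine_five hyr hy1 (h9.trans h1)
    · exact C.nine_seven hyr hy1 (h9.trans h1)
  by_contra hG
  obtain ⟨L, hL, r, k, d, M, hs, hna, -, hr, hr3, hd, hdk, hdvd, hgl⟩ := witness hG ⊥ bot_le (isPGroup_bot 3)
  obtain ⟨-, h81⟩ := Comp.card_comp_quot hcard hcent hL
  rw [hcard, card_bot, one_mul] at hdvd
  have hdS : Nat.card (↥L ⧸ center ↥L) ∣ 19595520 := (dvd_mul_left _ _).trans hdvd
  obtain ⟨g, hg, -, hgc⟩ := exists_good Tb (hS (↥L ⧸ center ↥L)) hna (l := [(2, 8), (3, 7), (5, 1), (7, 1)])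
    (by decide +kernel) hdS
  have h64 : 64 ∣ Nat.card (↥L ⧸ center ↥L) := by
    have h1 : ∀ g ∈ cands [(2, 8), (3, 7), (5, 1), (7, 1)] 19595520, 81 ∣ ordN g → 64 ∣ ordN g := by decide +kernel
    rw [hgc]
    exact h1 g hg (hgc ▸ h81)
  have h2 : r = 2 := eq_two_of_sq hr hr3 (((pow_dvd_pow r (hd.trans hdk)).trans (dvd_mul_right _ _)).trans hdvd)
    (a := 8) (b := 7) (c := 35) (by norm_num) (by
      intro q hq hq2
      have h1 : q ^ 2 ≤ 35 := Nat.le_of_dvd (by norm_num) hq2
      have h2 : q ≤ 5 := by nlinarith only [h1]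
      interval_cases q <;> revert hq hq2 <;> norm_num)
  subst h2
  have hk : k ≤ 2 := by
    by_contra hlt
    have h1 : 2 ^ 3 * 64 ∣ 19595520 := (mul_dvd_mul (pow_dvd_pow 2 (by omega : 3 ≤ k)) h64).trans hdvd
    revert h1
    norm_num
  have hd2 : d = 2 := by omega
  subst hd2
  have h1 : 81 ∣ 2 ^ M * ∏ i : Fin 2, (2 ^ 2 - 2 ^ (i : ℕ)) := h81.trans hgl
  have h3 : Nat.Coprime 81 (2 ^ M) := Nat.Coprime.pow_right _ (by norm_num)
  have h4 := h3.dvd_of_dvd_mul_left h1
  revert h4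
  simp only [Fin.prod_univ_two, _root_.Nat.reducePow, _root_.Fin.isValue, _root_.Fin.coe_ofNat_eq_mod, _root_.Nat.zero_mod, _root_.pow_zero, _root_.Nat.add_one_sub_one, _root_.Nat.mod_succ, _root_.pow_one, _root_.Nat.reduceSub, _root_.Nat.reduceMul, _root_.Nat.reduceDvd, _root_.imp_self]

/-- the other elements of order three -/
theorem good_three_b (Tb : OrderTable.{0}) (hS : Known) {d d' : K} {R : Subgroup K} (F : KFacts.FiTT.Facts K d d' R)
    {x : K} (hx : orderOf x = 3) (h3 : ¬ Is3A T x) : Good 3 ↥(centralizer ({x} : Set K)) := by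
  have hfin := C.finite
  have : Fact (Nat.Prime 3) := ⟨Nat.prime_three⟩
  have hx3 : x ^ 3 = 1 := by rw [← hx, pow_orderOf_eq_one]
  have hx1 : x ≠ 1 := by
    rintro rfl
    rw [orderOf_one] at hx
    norm_num at hx
  have key : ∀ r : ℕ, r = 5 ∨ r = 7 ∨ r = 11 → ¬ r ∣ Nat.card ↥(centralizer ({x} : Set K)) := by
    intro r hr hdvd
    have hrp : r.Prime := by rcases hr with rfl | rfl | rfl <;> norm_num
    have : Fact r.Prime := ⟨hrp⟩
    obtain ⟨⟨y, hyx⟩, hy⟩ := exists_prime_orderOf_dvd_card' (G := ↥(centralizer ({x} : Set K))) r hdvd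
    rw [Subgroup.orderOf_mk] at hy
    have hyr : y ^ r = 1 := by rw [← hy, pow_orderOf_eq_one]
    have hy1 : y ≠ 1 := by
      rintro rfl
      rw [orderOf_one] at hy
      exact hrp.one_lt.ne hy
    have hxy : x * y = y * x := (mem_centralizer_singleton_iff.1 hyx).symm
    rcases hr with rfl | rfl | rfl
    · exact h3 (C.five hyr hy1 hx3 hx1 hxy)
    · exact h3 (C.seven hyr hy1 hx3 hx1 hxy)
    · exact hx1 (C.eleven hyr hy1 hx3 hxy)
  have hd0 : Nat.card ↥(centralizer ({x} : Set K)) ∣ 2 ^ 17 * 3 ^ 9 * 13 * (5 * 5 * 7 * 11) := by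
    refine (Subgroup.card_subgroup_dvd_card _).trans ?_
    rw [C.card]
    norm_num
  have hco : ∀ r : ℕ, r = 5 ∨ r = 7 ∨ r = 11 → (Nat.card ↥(centralizer ({x} : Set K))).Coprime r := by
    intro r hr
    have hrp : r.Prime := by rcases hr with rfl | rfl | rfl <;> norm_num
    exact ((Nat.Prime.coprime_iff_not_dvd hrp).2 (key r hr)).symm
  have hc : (Nat.card ↥(centralizer ({x} : Set K))).Coprime (5 * 5 * 7 * 11) := by
    refine Nat.Coprime.mul_right (Nat.Coprime.mul_right (Nat.Coprime.mul_right ?_ ?_) ?_) ?_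
    · exact hco 5 (Or.inl rfl)
    · exact hco 5 (Or.inl rfl)
    · exact hco 7 (Or.inr (Or.inl rfl))
    · exact hco 11 (Or.inr (Or.inr rfl))
  have h1 : Nat.card ↥(centralizer ({x} : Set K)) ∣ 2 ^ 17 * 3 ^ 9 * 13 := hc.dvd_of_dvd_mul_right hd0
  -- the 2-part
  have h16 : ¬ 2 ^ 16 ∣ Nat.card ↥(centralizer ({x} : Set K)) := by
    have hxo : Odd (orderOf x) := by rw [hx]; decide
    refine TwoIdx.not_dvd (z := d * d') (R := R) ?_ F.R_two F.R_normal ?_ F.odd F.center_S (by norm_num) ?_ hxo hx1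
    · intro y hy
      have h2 := mem_centralizer_iff.1 (F.R_le hy)
      have e1 : d * y = y * d := h2 d (Set.mem_insert _ _)
      have e2 : d' * y = y * d' := h2 d' (Set.mem_insert_of_mem _ rfl)
      rw [← mul_assoc, ← e1, mul_assoc, ← e2, mul_assoc]
    · intro y hy h2
      have hsq : y * y = 1 := by
        rcases F.R_center y h2 with rfl | rfl | rfl | rfl
        · rw [one_mul]
        · exact F.dd
        · exact F.dd'
        · calc d * d' * (d * d') = d * (d' * d) * d' := by group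
            _ = (d * d) * (d' * d') := by rw [← F.comm]; group
            _ = 1 := by rw [F.dd, F.dd', one_mul]
      have h3 : orderOf y ∣ 2 := orderOf_dvd_of_pow_eq_one (by rw [pow_two, hsq])
      have h4 : orderOf y = 1 := by
        rcases (Nat.dvd_prime Nat.prime_two).1 h3 with h4 | h4
        · exact h4
        · rw [h4] at hy
          exact absurd hy (by decide)
      exact orderOf_eq_one_iff.1 h4
    · rw [C.card]
      norm_num
  by_contra hG
  obtain ⟨L, hL, r, k, d, M, hs, hna, -, hr, hr3, hd, hdk, hdvd, hgl⟩ := witness hG ⊥ bot_le (isPGroup_bot 3)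
  rw [card_bot, one_mul] at hdvd
  have hdS : Nat.card (↥L ⧸ center ↥L) ∣ 2 ^ 17 * 3 ^ 9 * 13 := ((dvd_mul_left _ _).trans hdvd).trans h1
  obtain ⟨g, hg, -, hgc⟩ := exists_good Tb (hS (↥L ⧸ center ↥L)) hna (l := [(2, 17), (3, 9), (13, 1)])
    (by decide +kernel) hdS
  rw [show cands [(2, 17), (3, 9), (13, 1)] (2 ^ 17 * 3 ^ 9 * 13) = [.psl 3 3] from by decide +kernel] at hg
  simp only [List.mem_cons, List.not_mem_nil, or_false] at hg
  subst hg
  have hcS : Nat.card (↥L ⧸ center ↥L) = 5616 := by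
    rw [hgc]
    decide +kernel
  have h2 : r = 2 := eq_two_of_sq hr hr3 (((pow_dvd_pow r (hd.trans hdk)).trans (dvd_mul_right _ _)).trans hdvd)
    (a := 17) (b := 9) (c := 13) h1 (by
      intro q hq hq2
      have h1 : q ^ 2 ≤ 13 := Nat.le_of_dvd (by norm_num) hq2
      have h2 : q ≤ 3 := by nlinarith only [h1]
      interval_cases q <;> revert hq hq2 <;> norm_num)
  subst h2
  rw [hcS] at hgl hdvd
  have h12 := twelve_le ((by norm_num : 13 ∣ 5616).trans hgl)
  apply h16
  have h4 : 2 ^ 12 * 2 ^ 4 ∣ 2 ^ k * 5616 := mul_dvd_mul (pow_dvd_pow 2 (by omega)) (by norm_num)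
  rw [← pow_add] at h4
  exact h4.trans hdvd

end

/-- **Row `(Fi22, 3)`.** -/
theorem bps_three (Tb : OrderTable.{0}) (hS : Known) : BpS 3 Spor.Fi22 := by
  refine BpAlt.bpS_of_inner ?_ (CpAutFiFive.Fi22.inner Nat.prime_three (by norm_num)) ?_
  · have := CpAutFiFive.Fi22.simple
    exact CpAut.center_eq_bot_of_simple CpAutFiFive.Fi22.not_comm
  · intro g hg
    have C := Inst.ctx (MulEquiv.refl Spor.Fi22)
    obtain ⟨d, d', R, F⟩ := KFacts.FiTT.has_of_iso (K := Spor.Fi22) ⟨MulEquiv.refl _⟩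
    by_cases h : Is3A (KFacts.FiTT.TK (MulEquiv.refl Spor.Fi22)) g
    · exact good_three_a C Tb hS hg h
    · exact good_three_b C Tb hS F hg h

end Cfsg.Agent.BpSpor.FiTT

end
end

-- part: BpSpor/McLThree
section
-- merged: Cfsg.Agent.BpSpor.SmallFive
section

/-!
# S1332: the rows `J2` (`p = 5`), `He` (`p = 5, 7`) (helper91)

`good_of_four` : `p` odd and `|C_H(t)|` divides `4 p` for every involution `t` of `H`; then `H` is good: if there is a
`p`-component, `O_{p'}(H)` has odd order and a four-group acts on it with trivial fixed points.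
-/

set_option autoImplicit false
set_option linter.unusedSectionVars false

namespace Cfsg.Agent.BpSpor.SmallFive

open Subgroup Cfsg Cfsg.Agent.BpTab Cfsg.Agent.BpSpor.RowTool
open Cfsg.Agent.CpAut (AutInner)
open Cfsg.Agent.CpAut.SmallP (DD mem_DD)

universe u

section General

variable {H : Type u} [Group H] [Finite H] {p : ℕ}

/-- an involution without fixed points inverts a subgroup -/
theorem inverts {O : Subgroup H} {t : H} (ht : t * t = 1) (hO : ∀ a ∈ O, t * a * t⁻¹ ∈ O)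
    (hf : ∀ a ∈ O, t * a = a * t → a = 1) {c : H} (hc : c ∈ O) : t * c * t⁻¹ = c⁻¹ := by
  let f : ↥O → ↥O := fun a => ⟨(a : H)⁻¹ * (t * a * t⁻¹), O.mul_mem (O.inv_mem a.2) (hO a a.2)⟩
  have hinj : Function.Injective f := by
    intro a b hab
    have h1 : (a : H)⁻¹ * (t * a * t⁻¹) = (b : H)⁻¹ * (t * b * t⁻¹) := congrArg Subtype.val hab
    have h2 : t * ((b : H) * (a : H)⁻¹) = ((b : H) * (a : H)⁻¹) * t := by
      have h3 : (b : H) * (a : H)⁻¹ * (t * a * t⁻¹) = t * b * t⁻¹ := by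
        calc (b : H) * (a : H)⁻¹ * (t * a * t⁻¹) = b * ((a : H)⁻¹ * (t * a * t⁻¹)) := by group
          _ = b * ((b : H)⁻¹ * (t * b * t⁻¹)) := by rw [h1]
          _ = t * b * t⁻¹ := by group
      calc t * ((b : H) * (a : H)⁻¹) = (t * b * t⁻¹) * (t * (a : H)⁻¹) := by group
        _ = ((b : H) * (a : H)⁻¹ * (t * a * t⁻¹)) * (t * (a : H)⁻¹) := by rw [h3]
        _ = _ := by group
    have h4 := hf _ (O.mul_mem b.2 (O.inv_mem a.2)) h2
    exact Subtype.ext (mul_inv_eq_one.1 h4).symm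
  obtain ⟨a, ha⟩ := (Finite.injective_iff_surjective.1 hinj) ⟨c, hc⟩
  have hca : c = (a : H)⁻¹ * (t * a * t⁻¹) := (congrArg Subtype.val ha).symm
  have htt : t⁻¹ = t := inv_eq_of_mul_eq_one_left ht
  rw [hca]
  calc t * ((a : H)⁻¹ * (t * a * t⁻¹)) * t⁻¹ = (t * (a : H)⁻¹ * t⁻¹) * ((t * t) * a * (t * t)⁻¹) := by group
    _ = (t * (a : H)⁻¹ * t⁻¹) * a := by rw [ht]; group
    _ = ((a : H)⁻¹ * (t * a * t⁻¹))⁻¹ := by group

/-- **the criterion** -/
theorem good_of_four (hp : p.Prime) (hp2 : p ≠ 2)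
    (h : ∀ t : H, t * t = 1 → t ≠ 1 → Nat.card ↥(centralizer ({t} : Set H)) ∣ 4 * p) : Good p H := by
  have hF : Fact p.Prime := ⟨hp⟩
  have h2 : Fact (Nat.Prime 2) := ⟨Nat.prime_two⟩
  by_cases hs : Group.IsSolvable H
  · exact good_of_solvable hs
  -- two commuting involutions
  have hcs : ∀ t : H, t * t = 1 → t ≠ 1 → Group.IsSolvable ↥(centralizer ({t} : Set H)) := by
    intro t ht ht1
    -- `C(t) / ⟨t⟩` has order dividing `2 p`
    let C := centralizer ({t} : Set H)
    let t' : ↥C := ⟨t, mem_centralizer_singleton_iff.2 rfl⟩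
    have hc : t' ∈ center ↥C := by
      rw [mem_center_iff]
      intro g
      exact Subtype.ext (mem_centralizer_singleton_iff.1 g.2)
    have hX : zpowers t' ≤ center ↥C := zpowers_le.2 hc
    have hn : (zpowers t').Normal := ⟨fun y hy g => by
      rw [mem_center_iff.1 (hX hy) g, mul_inv_cancel_right]; exact hy⟩
    rw [Group.isSolvable_iff_subgroup_quotient (zpowers t')]
    refine ⟨Group.isSolvable_of_comm fun a b => Subtype.ext (mem_center_iff.1 (hX b.2) a), ?_⟩
    apply CpAut.SmallP.isSolvable_of_not_four_dvd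
    intro h4
    have h1 := Subgroup.card_eq_card_quotient_mul_card_subgroup (zpowers t')
    have ht2 : orderOf t' = 2 := by
      rw [← Subgroup.orderOf_coe]
      exact orderOf_eq_prime (by rw [pow_two]; exact ht) ht1
    rw [Nat.card_zpowers, ht2] at h1
    have h8 : 8 ∣ 4 * p := by
      refine dvd_trans ?_ (h t ht ht1)
      obtain ⟨k, hk⟩ := h4
      exact ⟨k, by change Nat.card ↥C = _; rw [h1, hk]; ring⟩
    have h9 : 2 ∣ p := by
      obtain ⟨k, hk⟩ := h8
      exact ⟨k, by omega⟩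
    exact hp2 ((Nat.prime_dvd_prime_iff_eq Nat.prime_two hp).1 h9).symm
  obtain ⟨t, s, ht, ht1, hss, hs1, hst, hne⟩ : ∃ t s : H, t * t = 1 ∧ t ≠ 1 ∧ s * s = 1 ∧ s ≠ 1 ∧
      s * t = t * s ∧ s ≠ t := by
    by_contra hcon
    apply hs
    refine CpAut.SmallP.isSolvable_of_two_rank_one (fun t s ht ht1 hs hs1 hst => ?_) hcs
    by_contra hne
    exact hcon ⟨t, s, ht, ht1, hs, hs1, hst, hne⟩
  -- the Sylow 2-subgroup has order 4
  have h8 : ¬ 8 ∣ Nat.card H := by
    intro h8
    have h9 := CpAut.SmallP.not_dvd_of_DD (K := H) (x := 1) (k := 3) (by norm_num) (fun t ht ht1 _ h8 => by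
      have h3 : DD (1 : H) t = centralizer ({t} : Set H) := by
        ext y
        rw [mem_DD, mem_centralizer_singleton_iff]
        exact ⟨fun h => h.1, fun h => ⟨h, by rw [mul_one, one_mul]⟩⟩
      rw [h3] at h8
      have h4 : 8 ∣ 4 * p := h8.trans (h t ht ht1)
      have h9 : 2 ∣ p := by
        obtain ⟨k, hk⟩ := h4
        exact ⟨k, by omega⟩
      exact hp2 ((Nat.prime_dvd_prime_iff_eq Nat.prime_two hp).1 h9).symm)
    apply h9
    have h5 : centralizer ({(1 : H)} : Set H) = ⊤ := by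
      ext y
      rw [mem_centralizer_singleton_iff]
      simp
    rw [h5, card_top]
    exact h8
  -- `O` has odd order
  have hON := Lib.Cores.pPrimeCore_normal (G := H) p
  by_cases hL : pLayer p H = ⊥
  · exact good_of_pLayer hL
  have hqs : ¬ Group.IsSolvable (H ⧸ pPrimeCore p H) := by
    intro hq
    apply hL
    rw [eq_bot_iff]
    refine sSup_le fun K hK => ?_
    exfalso
    exact SignalizersComponents.Components.quasisimple_not_isSolvable hK.2.1.2 inferInstance
  have h4q : 4 ∣ Nat.card (H ⧸ pPrimeCore p H) := by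
    by_contra h4
    exact hqs (CpAut.SmallP.isSolvable_of_not_four_dvd h4)
  have hodd : ¬ 2 ∣ Nat.card ↥(pPrimeCore p H) := by
    intro hd
    apply h8
    have h1 := Subgroup.card_eq_card_quotient_mul_card_subgroup (pPrimeCore p H)
    rw [h1]
    exact Nat.mul_dvd_mul h4q hd
  -- involutions act without fixed points
  have hfix : ∀ v : H, v * v = 1 → v ≠ 1 → ∀ a ∈ pPrimeCore p H, v * a = a * v → a = 1 := by
    intro v hv hv1 a ha hva
    have h1 : orderOf a ∣ Nat.card ↥(pPrimeCore p H) := by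
      have h2 : orderOf (⟨a, ha⟩ : ↥(pPrimeCore p H)) ∣ Nat.card ↥(pPrimeCore p H) := _root_.orderOf_dvd_natCard _
      rwa [Subgroup.orderOf_mk] at h2
    have h2 : orderOf a ∣ 4 * p := by
      refine dvd_trans ?_ (h v hv hv1)
      have h3 : orderOf (⟨a, mem_centralizer_singleton_iff.2 hva.symm⟩ : ↥(centralizer ({v} : Set H))) ∣ _ :=
        _root_.orderOf_dvd_natCard _
      rwa [Subgroup.orderOf_mk] at h3
    have h3 : (orderOf a).Coprime 4 := by
      have : (orderOf a).Coprime 2 := (Nat.prime_two.coprime_iff_not_dvd.2 fun h => hodd (h.trans h1)).symm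
      exact Nat.Coprime.pow_right 2 this
    have h4 : (orderOf a).Coprime p := Nat.Coprime.coprime_dvd_left h1 (Lib.Cores.pPrimeCore_coprime (G := H) p)
    have h5 : orderOf a ∣ 1 := by
      have := (Nat.Coprime.mul_right h3 h4)
      exact Nat.dvd_one.2 (Nat.eq_one_of_dvd_coprimes this dvd_rfl h2)
    exact orderOf_eq_one_iff.1 (Nat.dvd_one.1 h5)
  apply good_of_core
  rw [eq_bot_iff]
  intro a ha
  rw [mem_bot]
  have hti := inverts ht (fun a ha => hON.conj_mem a ha t) (hfix t ht ht1) ha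
  have hsi := inverts hss (fun a ha => hON.conj_mem a ha s) (hfix s hss hs1) (hON.conj_mem a ha t)
  have hts1 : s * t ≠ 1 := by
    intro h
    apply hne
    calc s = s * (t * t) := by rw [ht, mul_one]
      _ = (s * t) * t := by group
      _ = t := by rw [h, one_mul]
  refine hfix (s * t) ?_ hts1 a ha ?_
  · calc s * t * (s * t) = s * (t * s) * t := by group
      _ = s * (s * t) * t := by rw [hst]
      _ = (s * s) * (t * t) := by group
      _ = 1 := by rw [hss, ht, one_mul]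
  · have h5 : s * (t * a * t⁻¹) * s⁻¹ = a := by rw [hsi, hti, inv_inv]
    calc s * t * a = (s * (t * a * t⁻¹) * s⁻¹) * (s * t) := by group
      _ = a * (s * t) := by rw [h5]

end General

/-! ### the centralizers -/

section Cent

variable {K : Type u} [Group K] [Finite K] {p : ℕ}

/-- the criterion for a centralizer -/
theorem good_cent (hp : p.Prime) (hp2 : p ≠ 2) {x : K}
    (h : ∀ t : K, t * t = 1 → t ≠ 1 → t * x = x * t → Nat.card ↥(DD x t) ∣ 4 * p) :
    Good p ↥(centralizer ({x} : Set K)) := by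
  refine good_of_four hp hp2 fun t ht ht1 => ?_
  have htx : (t : K) * x = x * t := mem_centralizer_singleton_iff.1 t.2
  have h1 := h t (congrArg Subtype.val ht) (fun h => ht1 (Subtype.ext h)) htx
  refine dvd_trans ?_ h1
  have h2 : (centralizer ({t} : Set ↥(centralizer ({x} : Set K)))).map (centralizer ({x} : Set K)).subtype ≤
      DD x (t : K) := by
    rintro _ ⟨y, hy, rfl⟩
    refine mem_DD.2 ⟨?_, mem_centralizer_singleton_iff.1 y.2⟩
    exact congrArg Subtype.val (mem_centralizer_singleton_iff.1 hy)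
  rw [← Subgroup.card_map_of_injective (K := centralizer ({t} : Set ↥(centralizer ({x} : Set K))))
    (centralizer ({x} : Set K)).subtype_injective]
  exact Subgroup.card_dvd_of_le h2

end Cent

theorem bps_simple {X : Type*} [Group X] [IsSimpleGroup X] {p : ℕ} (hp : p.Prime) (hi : AutInner p X)
    (h : ∀ g : X, orderOf g = p → Good p ↥(centralizer ({g} : Set X))) : BpS p X := by
  by_cases hX : IsMulCommutative X
  · intro x hx
    exfalso
    obtain ⟨g, rfl⟩ := hi x hx
    have h1 : (MulAut.conj g : MulAut X) = 1 := by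
      ext a
      change g * a * g⁻¹ = a
      rw [hX.is_comm.comm g a, mul_inv_cancel_right]
    rw [h1, orderOf_one] at hx
    exact hp.ne_one hx.symm
  · exact bps_of_inner (CpAut.center_eq_bot_of_simple hX) hi h

theorem autInner_of_two {X : Type*} [Group X] {p : ℕ} (hp : p.Prime) (hp2 : p ≠ 2)
    (hi : (MulAut.conj : X →* MulAut X).range.index = 1 ∨ (MulAut.conj : X →* MulAut X).range.index = 2) :
    AutInner p X := by
  refine CpAut.autInner_of_sq hp hp2 fun α => ?_
  have h : α * α ∈ (MulAut.conj : X →* MulAut X).range := by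
    rcases hi with e | e
    · rw [Subgroup.index_eq_one.1 e]; trivial
    · exact Subgroup.mul_self_mem_of_index_two e α
  obtain ⟨g, hg⟩ := h
  exact ⟨g, hg.symm⟩

/-- **J2, p = 5** -/
theorem j2_five : BpS 5 Spor.J2 := by
  have hs : IsSimpleGroup Spor.J2 := Cfsg.Agent.S1620.result.1
  have hf : Finite Spor.J2 := Nat.finite_of_card_ne_zero (by
    rw [Cfsg.Agent.S1619.result.2.2.2]; norm_num)
  obtain ⟨t, u, Q, v, ρ, D⟩ := KFacts.J2.Facts.exists_dat_of (X := Spor.J2) ⟨MulEquiv.refl _⟩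
  refine bps_simple (by norm_num) (autInner_of_two (by norm_num) (by norm_num) (KFacts.J2.SheetX.index_le D)) ?_
  intro x hx
  refine good_cent (by norm_num) (by norm_num) fun s hs hs1 hsx => ?_
  rcases D.F.cover s (orderOf_eq_prime (by rw [pow_two]; exact hs) hs1) with h1 | h1
  · exact CpAut.SmallP.card_DD_of_isConj h1 (CpAut.SmallP.J2.card_z D.F) hx hsx
  · exact CpAut.SmallP.card_DD_of_isConj h1 (CpAut.SmallP.J2.card_u D.F) hx hsx

/-- **He, p = 5** -/
theorem he_five : BpS 5 Spor.He := by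
  have hf := CpAut.SmallP.He.finite_he
  have hs : IsSimpleGroup Spor.He := inferInstance
  refine bps_simple (by norm_num) (autInner_of_two (by norm_num) (by norm_num)
    (KFacts.He.Outer.index_le_two ⟨MulEquiv.refl _⟩)) ?_
  intro x hx
  refine good_cent (by norm_num) (by norm_num) fun s hs hs1 hsx => ?_
  rcases KFacts.He.Classes.two_classes_a hs hs1 with ⟨g, hg⟩ | ⟨g, hg⟩
  · exact CpAut.SmallP.card_DD_of_isConj (isConj_iff.2 ⟨g, hg⟩)
      (fun x hx hzx => (CpAut.SmallP.He.ok_z5 hx hzx).elim) hx hsx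
  · exact CpAut.SmallP.card_DD_of_isConj (isConj_iff.2 ⟨g, hg⟩)
      (fun x hx hzx => CpAut.SmallP.He.card_a5 hx hzx) hx hsx

/-- **He, p = 7** -/
theorem he_seven : BpS 7 Spor.He := by
  have hf := CpAut.SmallP.He.finite_he
  have h7 : Fact (Nat.Prime 7) := ⟨by norm_num⟩
  have hs : IsSimpleGroup Spor.He := inferInstance
  have hcard : Nat.card Spor.He = 4030387200 := KFacts.He.Classes.card_he
  refine bps_simple (by norm_num) (autInner_of_two (by norm_num) (by norm_num)
    (KFacts.He.Outer.index_le_two ⟨MulEquiv.refl _⟩)) ?_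
  intro x hx
  refine good_sub _ (fun _ h => ?_) ?_ ?_ ?_ ?_
  · exact CpAut.SmallP.He.not_sixteen_seven ⟨MulEquiv.refl _⟩ hx ((by norm_num : 16 ∣ 64).trans h)
  · intro _; rw [hcard]; norm_num
  · intro _; rw [hcard]; norm_num
  · intro h; exact absurd rfl h
  · intro r hr h11 _
    exact no_sq 10 3 2 3 [17] (hcard.trans (by norm_num)) (by simp; norm_num) (by simp) r hr h11

end Cfsg.Agent.BpSpor.SmallFive

end

-- merged: Cfsg.Agent.BpSpor.McLFive
section

/-!
# S1332: the row `McL`, `p = 5` (helper91)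

The centralizers of the elements of order 5 of `McL` are solvable.
-/

set_option autoImplicit false

namespace Cfsg.Agent.BpSpor.McL

open Subgroup Cfsg Cfsg.Agent.BpTab

theorem bps_five : BpS 5 Spor.McL := by
  obtain ⟨hf, hs, -⟩ := TypeM.FactsMcL.exists_mt_mcl
  exact SmallFive.bps_simple (by norm_num) (CpAut.autInner_of_sq (by norm_num) (by norm_num) fun α => by
      obtain ⟨g, hg⟩ := CpAut.SmallP.McL.sq_inner α
      exact ⟨g, hg.symm⟩)
    fun g hg => good_of_solvable (CpAut.SmallP.McL.isSolvable_five ⟨MulEquiv.refl _⟩ hg)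

end Cfsg.Agent.BpSpor.McL

end

-- merged: Cfsg.Agent.BpSpor.McLThree
section

/-!
# S1332: the row `McL`, `p = 3` (helper91)

`C(x) / O_{3'}(C(x))` has no component (helper10).
-/

set_option autoImplicit false

namespace Cfsg.Agent.BpSpor.McL

open Subgroup Cfsg Cfsg.Agent.BpTab

theorem bps_three (FT : ∀ (K : Type) [Group K] [Finite K], Odd (Nat.card K) → Group.IsSolvable K)
    (hS : CpAut.AllKnown.{0}) (T : OrdDiv.OrderTable.{0}) : BpS 3 Spor.McL := by
  obtain ⟨hf, hs, hcard, ⟨L⟩⟩ := TypeM.FactsMcL.facts (M := Spor.McL) ⟨MulEquiv.refl _⟩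
  exact SmallFive.bps_simple Nat.prime_three (CpAut.autInner_of_sq Nat.prime_three (by norm_num) fun α => by
      obtain ⟨g, hg⟩ := CpAut.SmallP.McL.sq_inner α
      exact ⟨g, hg.symm⟩)
    fun g hg => NoComp.good (CpAut.SporThree.McL.no_comp L hcard CpAut.SporThree.McL.dvd_card FT hS T hg)

end Cfsg.Agent.BpSpor.McL

end
end

-- part: BpTab/Spor
section
-- merged: Cfsg.Agent.BpMon.ThirteenRow
section

/-!
# S1332: the row `M`, `p = 13` (helper80; the 2A case is helper75's)
-/

set_option autoImplicit false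
set_option maxRecDepth 100000

namespace Cfsg.Agent.BpMon.Thirteen

open Cfsg Cfsg.Agent.BpTab

/-- **Row `M`, `p = 13`.** -/
theorem bps_thirteen (hS : CpAut.AllKnown.{0}) : BpS 13 Spor.Monster :=
  bps_of fun _ _ hx _ _ hex => MThirteen.TwoARow.good hex LThreeMB.CoOneFin.coOne CpAutBFive.Final.coFive
    CpAutBFive.Final.hJ hS OrdDiv.table hx

end Cfsg.Agent.BpMon.Thirteen

end

-- merged: Cfsg.Agent.BpSpor.JThree
section

/-!
# S1332: the row `J3`, `p = 3` (helper77)

`J3` is of characteristic 2 type and `2^8` does not divide its order.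
-/

set_option autoImplicit false

namespace Cfsg.Agent.BpSpor.JThree

open Subgroup Cfsg Cfsg.Agent.BpTab Cfsg.Agent.BpSpor.RowTool

universe u

theorem bps {K : Type u} [Group K] (h : Spor.IsoJ3 K) : BpS 3 K := by
  have h3 : Fact (Nat.Prime 3) := ⟨Nat.prime_three⟩
  have hs := (KFacts.J3.exists_facts h).1
  obtain ⟨hcard, -, -, -⟩ := CpAutJThree.base h
  have hfin : Finite K := Nat.finite_of_card_ne_zero (by rw [hcard]; norm_num)
  have hna : ¬ IsMulCommutative K := by
    intro hcomm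
    have h1 : ∀ a b : K, a * b = b * a := hcomm.is_comm.comm
    let _ : CommGroup K := { (inferInstance : Group K) with mul_comm := h1 }
    have h2 := IsSimpleGroup.prime_card (α := K)
    rw [hcard] at h2
    norm_num at h2
  refine bps_of_charTwo (by norm_num) (CpAut.center_eq_bot_of_simple hna)
    (CpAutJThree.autInner h Nat.prime_three (by norm_num)) (OddHalf.Small.J3.j3 K h) ?_ ?_ ?_ ?_ ?_
  · intro j h1 h2
    rw [hcard]
    exact Mathieu.pow_of (k := 8) (by norm_num) (by have := Mathieu.two_le_of_three h1 h2; omega)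
  · intro h; exact absurd rfl h
  · intro _; rw [hcard]; norm_num
  · intro _; rw [hcard]; norm_num
  · intro r hr h11 _
    exact no_sq 7 5 1 0 [17, 19] (hcard.trans (by norm_num)) (by simp; norm_num) (by simp) r hr h11

end Cfsg.Agent.BpSpor.JThree

end

-- merged: Cfsg.Agent.BpSpor.JFour
section

/-!
# S1332: the row `J4`, `p = 11` (helper77)

The centralizers of the elements of order 11 are solvable (helper76).
-/

set_option autoImplicit false

namespace Cfsg.Agent.BpSpor.JFour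

open Subgroup Cfsg Cfsg.Agent.BpTab Cfsg.Agent.BpSpor.RowTool
open Cfsg.Agent.CpAut (AutInner)

theorem center_bot : center Spor.J4 = ⊥ := by
  obtain ⟨hfin, hsim, ⟨F⟩⟩ := KFacts.J4.Base.exists_full (K := Cfsg.Spor.J4) ⟨MulEquiv.refl _⟩
  refine CpAut.center_eq_bot_of_simple ?_
  intro hc
  have h3 := F.C.ρ_order
  rcases F.C.Q_cent F.C.ρ (fun q _ => hc.is_comm.comm _ _) with h1 | h1
  · rw [h1, orderOf_one] at h3
    exact absurd h3 (by norm_num)
  · rw [h1, F.C.z_order] at h3
    exact absurd h3 (by norm_num)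

theorem autInner (p : ℕ) : AutInner p Spor.J4 := by
  obtain ⟨hfin, hsim, ⟨F⟩⟩ := KFacts.J4.Base.exists_full (K := Cfsg.Spor.J4) ⟨MulEquiv.refl _⟩
  intro α _
  exact KFacts.J4.SheetJ4.inner F α

theorem bps_eleven : BpS 11 Spor.J4 := by
  obtain ⟨hfin, hsim, ⟨F⟩⟩ := KFacts.J4.Base.exists_full (K := Cfsg.Spor.J4) ⟨MulEquiv.refl _⟩
  refine bps_of_inner center_bot (autInner 11) fun g hg => ?_
  exact good_of_solvable (CpAutJ4.solvable_eleven (fun K _ _ h => S0205.result h) g hg)

end Cfsg.Agent.BpSpor.JFour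

end

-- merged: Cfsg.Agent.BpSpor.ONan
section

/-!
# S1332: the row `O'N`, `p = 7` (helper77)

The centralizers of the elements of order 7 are solvable (helper69).
-/

set_option autoImplicit false

namespace Cfsg.Agent.BpSpor.ONan

open Subgroup Cfsg Cfsg.Agent.BpTab Cfsg.Agent.BpSpor.RowTool

theorem bps_seven : BpS 7 Spor.ON :=
  have : Finite Spor.ON := KFacts.ON.Cent.finite_ON
  bps_of_inner CpAutON.Seven.center_bot (CpAutON.Seven.autInner (by norm_num) (by norm_num)) fun _ hg =>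
    good_of_solvable (CpAutON.Seven.solvable (fun K _ _ h => S0205.result h) hg)

end Cfsg.Agent.BpSpor.ONan

end

-- merged: Cfsg.Agent.BpSpor.CoThreeThree
section

/-!
# S1332: the row `BpS 3 Co3` (helper25)
-/

set_option autoImplicit false

namespace Cfsg.Agent.BpSpor.Co3

open Subgroup Cfsg Cfsg.Agent.BpTab Cfsg.Agent.SporRec.Co3.Chain Cfsg.Agent.SporRec.Co3.Ident
open Cfsg.Agent.SporRec.Co3.Model (equivCo3)

/-- the centralizers of the elements of order three -/
theorem good_three {x : G3} (hx : orderOf x = 3) : Good 3 ↥(centralizer ({x} : Set G3)) := by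
  have : Fact (Nat.Prime 3) := ⟨Nat.prime_three⟩
  have := CoThree.finite_G3
  have hcard : Nat.card G3 = 495766656000 := isCo3_G3.2
  have hd := card_subgroup_dvd_card (centralizer ({x} : Set G3))
  refine BpNum.good_of_card (fun _ => CoThree.not_sixty_four hx) (fun h => absurd rfl h) (fun _ h => ?_)
    (fun _ h => ?_) (fun r hr h11 _ h => ?_)
  · refine CoThreeTF.not_dvd (H := ↥(centralizer ({x} : Set G3))) PreUniqCo.Facts.facts
      (φ := G3.subtype.comp (centralizer ({x} : Set G3)).subtype) (v := Spor.leechV)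
      (x := ⟨x, mem_centralizer_singleton_iff.2 rfl⟩) ?_ PreUniqCo.Rows.leechV_ne ?_ ?_ ?_ ?_
    · exact (subtype_injective _).comp (subtype_injective _)
    · intro h
      exact (h : G3).2
    · rw [Subgroup.orderOf_mk, hx]
    · intro g
      exact Subtype.ext (mem_centralizer_singleton_iff.1 g.2)
    · exact dvd_trans (by norm_num) h
  · have h1 := h.trans hd
    rw [hcard] at h1
    norm_num at h1
  · exact RowTool.no_sq 10 7 3 1 [11, 23] (hcard.trans (by norm_num)) (by simp; norm_num) (by simp) r hr h11 (h.trans hd)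

theorem bps_G3 : BpS 3 G3 := by
  have h : Spor.IsoCo3 G3 := ⟨equivCo3⟩
  have hD := BpSpor.Row.dat_co3 h
  refine RowTool.bps_of_inner ?_ (hD.inn 3 Nat.prime_three (by norm_num)) fun g hg => good_three hg
  have := CoThree.finite_G3
  exact center_eq_bot_of_card hD.simple (by rw [hD.card]; norm_num)

/-- **The row Co3, `p = 3`.** -/
theorem bps_three : BpS 3 Spor.Co3 := by
  have : Fact (Nat.Prime 3) := ⟨Nat.prime_three⟩
  have := CoThree.finite_G3
  have : Finite Spor.Co3 := Finite.of_equiv _ equivCo3.toEquiv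
  exact bpS_congr equivCo3 bps_G3

end Cfsg.Agent.BpSpor.Co3

end

-- merged: Cfsg.Agent.BpSpor.FiTTFive
section

/-!
# S1332, row `(Fi22, 5)` (helper36)

For `u` of order 5 the 10 transpositions commuting with `u` generate a normal subgroup `S5` of `C(u)`.
-/

set_option autoImplicit false

namespace Cfsg.Agent.BpSpor.FiTT

open Subgroup Cfsg Cfsg.Agent.BpTab Equiv
open Cfsg.Agent.LThreeFi22
open Cfsg.Agent.SporRec.Co3.FiveHom (tp exists_hom injective_of)

universe v

variable {K : Type v} [Group K] {T : Set K}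

/-- commuting elements `x`, `y` with `x ^ 3 = y ^ 3 = 1` generating more than `⟨x⟩` -/
theorem nine_dvd {H : Type*} [Group H] [Finite H] {x y : H} (hx : x ^ 3 = 1) (hy : y ^ 3 = 1) (hx1 : x ≠ 1)
    (hxy : x * y = y * x) (hne : y ∉ zpowers x) : 9 ∣ Nat.card H := by
  have : Fact (Nat.Prime 3) := ⟨Nat.prime_three⟩
  have ho : orderOf x = 3 := orderOf_eq_prime hx hx1
  have hc : ∀ a ∈ zpowers x, ∀ b ∈ zpowers y, a * b = b * a := by
    rintro _ ⟨i, rfl⟩ _ ⟨j, rfl⟩
    exact ((show Commute x y from hxy).zpow_zpow i j).eq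
  have hle : zpowers y ≤ normalizer (zpowers x : Set H) := by
    intro b hb
    rw [mem_normalizer_iff]
    intro a
    constructor
    · intro ha
      rw [← hc a ha b hb, mul_inv_cancel_right]
      exact ha
    · intro ha
      have h1 := hc _ ha b hb
      have h2 : b * a * b⁻¹ = a := by
        have h3 : b * a * b⁻¹ * b = b * (b * a * b⁻¹) := h1
        have h4 : a = b * a * b⁻¹ := by
          have h5 : b * a = b * (b * a * b⁻¹) := by
            rw [← h3]
            group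
          exact mul_left_cancel h5
        exact h4.symm
      rwa [h2] at ha
  have hPx : IsPGroup 3 ↥(zpowers x) := IsPGroup.of_card (n := 1) (by rw [Nat.card_zpowers, ho, pow_one])
  have hPy : IsPGroup 3 ↥(zpowers y) := by
    obtain ⟨m, hm, hm'⟩ := (Nat.dvd_prime_pow Nat.prime_three).1 (orderOf_dvd_of_pow_eq_one (by rw [pow_one]; exact hy : y ^ 3 ^ 1 = 1))
    exact IsPGroup.of_card (n := m) (by rw [Nat.card_zpowers, hm'])
  have hP : IsPGroup 3 ↥(zpowers x ⊔ zpowers y : Subgroup H) := hPx.to_sup_of_normal_left' hPy hle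
  obtain ⟨m, hm⟩ := IsPGroup.iff_card.1 hP
  have hlt : Nat.card ↥(zpowers x) < Nat.card ↥(zpowers x ⊔ zpowers y : Subgroup H) := by
    refine lt_of_le_of_ne (card_le_of_le le_sup_left) ?_
    intro h1
    apply hne
    have h3 : zpowers x = zpowers x ⊔ zpowers y := eq_of_le_of_card_ge le_sup_left h1.ge
    rw [h3]
    exact mem_sup_right (mem_zpowers y)
  have hm2 : 2 ≤ m := by
    by_contra h1
    rw [hm, Nat.card_zpowers, ho] at hlt
    have : 3 ^ m ≤ 3 ^ 1 := Nat.pow_le_pow_right (by norm_num) (by omega)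
    omega
  refine (pow_dvd_pow 3 hm2).trans ?_
  rw [← hm]
  exact card_subgroup_dvd_card _

section five

variable (C : Ctx K T) {u : K} (hu : u ^ 5 = 1) (hu1 : u ≠ 1)
include C hu hu1

/-- no two orthogonal noncommuting pairs -/
theorem no_sq {a b c d : K} (ha : a ∈ Fx T u) (hb : b ∈ Fx T u) (hc : c ∈ Fx T u) (hd : d ∈ Fx T u) (hab : a * b ≠ b * a)
    (hcd : c * d ≠ d * c) (hac : a * c = c * a) (had : a * d = d * a) (hbc : b * c = c * b) (hbd : b * d = d * b) : False := by
  have := C.finite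
  apply C.nine_five hu hu1
  have h3 : (a * b) ^ 3 = 1 := C.cube ha.1 hb.1 hab
  have h4 : (c * d) ^ 3 = 1 := C.cube hc.1 hd.1 hcd
  have m1 : a * b ∈ centralizer ({u} : Set K) := by
    rw [mem_centralizer_singleton_iff, mul_assoc, ← hb.2, ← mul_assoc, ← ha.2, mul_assoc]
  have m2 : c * d ∈ centralizer ({u} : Set K) := by
    rw [mem_centralizer_singleton_iff, mul_assoc, ← hd.2, ← mul_assoc, ← hc.2, mul_assoc]
  have e1 : Commute a (c * d) := (show Commute a c from hac).mul_right had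
  have e2 : Commute b (c * d) := (show Commute b c from hbc).mul_right hbd
  refine nine_dvd (x := (⟨a * b, m1⟩ : ↥(centralizer ({u} : Set K)))) (y := ⟨c * d, m2⟩) (Subtype.ext h3) (Subtype.ext h4) ?_
    (Subtype.ext (e1.mul_left e2).eq) ?_
  · intro h
    apply hab
    have h5 : a * b = 1 := congrArg Subtype.val h
    have h6 : a = b⁻¹ := eq_inv_of_mul_eq_one_left h5
    rw [h6, inv_mul_cancel, mul_inv_cancel]
  · rintro ⟨i, hi⟩
    have h5 : (a * b) ^ i = c * d := congrArg Subtype.val hi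
    -- `c d` commutes with `a b` and with `c`, `d`
    have h6 : Commute (c * d) c := by
      rw [← h5]
      have e3 : Commute (a * b) c := (show Commute a c from hac).mul_left hbc
      exact e3.zpow_left i
    apply hcd
    have h7 : c * d * c = c * (c * d) := h6.eq
    have h8 : d * c = c * d := by
      rw [mul_assoc] at h7
      exact mul_left_cancel h7
    exact h8.symm

theorem exists_ne {d : K} (e : K) (hd : d ∈ Fx T u) : ∃ c ∈ Fx T u, c ≠ d ∧ d * c = c * d ∧ c ≠ e := by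
  have := C.finite
  have h := C.five_link hu hu1 hd
  by_contra hcon
  push Not at hcon
  have h1 : {c | c ∈ Fx T u ∧ c ≠ d ∧ d * c = c * d} ⊆ {e} := fun c hc => hcon c hc.1 hc.2.1 hc.2.2
  have h2 := Set.ncard_le_ncard h1 (Set.toFinite _)
  rw [h, Set.ncard_singleton] at h2
  omega

theorem exists_path : ∃ r : Fin 4 → K, (∀ i, r i ∈ Fx T u) ∧ (∀ i j : Fin 4, i.val + 1 < j.val → r i * r j = r j * r i) ∧
    (∀ i j : Fin 4, i.val + 1 = j.val → r i * r j ≠ r j * r i) ∧ r 0 ≠ r 2 := by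
  obtain ⟨d, hd1, hd2⟩ := C.ex5 u hu hu1
  have hd : d ∈ Fx T u := ⟨hd1, hd2⟩
  obtain ⟨a, ha, had, hda, -⟩ := exists_ne C hu hu1 d hd
  obtain ⟨c, hc, hca, hac, hcd⟩ := exists_ne C hu hu1 d ha
  obtain ⟨b, hb, hbd, hdb, hba⟩ := exists_ne C hu hu1 a hd
  have nab : a * b ≠ b * a := fun h => hba (C.five_free hu hu1 hd hb ha hbd had hdb hda h.symm)
  have ncd : c * d ≠ d * c := fun h => hcd (C.five_free hu hu1 ha hc hd hca had.symm hac hda.symm h)
  have nbc : b * c ≠ c * b := fun h => no_sq C hu hu1 ha hb hc hd nab ncd hac hda.symm h hdb.symm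
  refine ⟨![a, b, c, d], ?_, ?_, ?_, ?_⟩
  · intro i
    fin_cases i
    · exact ha
    · exact hb
    · exact hc
    · exact hd
  · intro i j hij
    fin_cases i <;> fin_cases j <;> first | exact absurd hij (by decide) | skip
    · exact hac
    · exact hda.symm
    · exact hdb.symm
  · intro i j hij
    fin_cases i <;> fin_cases j <;> first | exact absurd hij (by decide) | skip
    · exact nab
    · exact nbc
    · exact ncd
  · exact hca.symm

theorem good_five : Good 5 ↥(centralizer ({u} : Set K)) := by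
  have := C.finite
  obtain ⟨r, hr, hc, hn, h02⟩ := exists_path C hu hu1
  have hm : ∀ {x : K}, x ∈ Fx T u → x ∈ centralizer ({u} : Set K) := fun hx => mem_centralizer_singleton_iff.2 hx.2.symm
  let R : Fin 4 → ↥(centralizer ({u} : Set K)) := fun i => ⟨r i, hm (hr i)⟩
  obtain ⟨φ, hφ, -⟩ := exists_hom R (fun i => Subtype.ext (C.sq _ (hr i).1)) (fun i j hij => Subtype.ext (hc i j hij))
    (fun i j hij => Subtype.ext ((C.three _ (hr i).1 _ (hr j).1).resolve_left (hn i j hij)))
  have hinj : Function.Injective φ := by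
    apply injective_of
    rw [← Cfsg.Agent.SporRec.Co3.FiveHom.tp_dbl, map_mul, hφ, hφ]
    intro h
    apply h02
    have h1 : r 0 * r 2 = 1 := congrArg Subtype.val h
    rw [eq_inv_of_mul_eq_one_left h1, C.inv (hr 2).1]
  -- images of transpositions
  have hsw : ∀ i j : Fin 5, i ≠ j → (φ (swap i j) : K) ∈ Fx T u := by
    intro i j hij
    have h1 : (φ (tp 0) : K) ∈ Fx T u := by rw [hφ]; exact hr 0
    obtain ⟨σ, hσ⟩ : ∃ σ : Perm (Fin 5), swap i j = σ * tp 0 * σ⁻¹ := by
      have : ∀ i j : Fin 5, i ≠ j → ∃ σ : Perm (Fin 5), swap i j = σ * tp 0 * σ⁻¹ := by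
        intro i j hij
        have h3 := Perm.isConj_swap (show (0 : Fin 5) ≠ 1 by decide) hij
        rw [isConj_iff] at h3
        obtain ⟨c, hc⟩ := h3
        exact ⟨c, hc.symm⟩
      exact this i j hij
    rw [hσ, map_mul, map_mul, map_inv]
    exact C.fx_conj (mem_centralizer_singleton_iff.1 (φ σ).2) h1
  -- all elements of `Fx`
  have hall : ∀ x ∈ Fx T u, ∃ i j : Fin 5, i ≠ j ∧ x = φ (swap i j) := by
    have hcard : (Fx T u).ncard = 10 := by
      obtain ⟨d, hd1, hd2⟩ := C.ex5 u hu hu1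
      exact (C.five_far hu hu1 (d := d) ⟨hd1, hd2⟩).1
    let S : Finset (Perm (Fin 5)) := (Finset.univ.filter fun p : Fin 5 × Fin 5 => p.1 < p.2).image fun p => swap p.1 p.2
    have hS : S.card = 10 := by decide +kernel
    have hmem : ∀ σ : Perm (Fin 5), σ ∈ S → ∃ i j : Fin 5, i ≠ j ∧ σ = swap i j := by
      intro σ hσ
      obtain ⟨p, hp, rfl⟩ := Finset.mem_image.1 hσ
      exact ⟨p.1, p.2, (Finset.mem_filter.1 hp).2.ne, rfl⟩
    have hi : Function.Injective (fun σ : Perm (Fin 5) => ((φ σ : ↥(centralizer ({u} : Set K))) : K)) :=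
      Subtype.val_injective.comp hinj
    have h1 : ((fun σ : Perm (Fin 5) => ((φ σ : ↥(centralizer ({u} : Set K))) : K)) '' (S : Set (Perm (Fin 5)))) =
        Fx T u := by
      apply Set.eq_of_subset_of_ncard_le
      · rintro _ ⟨σ, hσ, rfl⟩
        obtain ⟨i, j, hij, rfl⟩ := hmem σ hσ
        exact hsw i j hij
      · rw [hcard, Set.ncard_image_of_injective _ hi, Set.ncard_coe_finset, hS]
      · exact Set.toFinite _
    intro x hx
    rw [← h1] at hx
    obtain ⟨σ, hσ, rfl⟩ := hx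
    obtain ⟨i, j, hij, rfl⟩ := hmem σ hσ
    exact ⟨i, j, hij, rfl⟩
  refine good_of_sym φ ?_ (p := 5) (by norm_num) (by norm_num) ?_ (u := ⟨u, mem_centralizer_singleton_iff.2 rfl⟩) ?_ ?_
    (by norm_num) (by norm_num) hinj
  · intro g i j hij
    have h1 := C.fx_conj (mem_centralizer_singleton_iff.1 g.2) (hsw i j hij)
    obtain ⟨i', j', h2, h3⟩ := hall _ h1
    exact ⟨i', j', h2, Subtype.ext h3⟩
  · intro h
    have h1 : 5 ^ 3 ∣ 64561751654400 := by
      rw [← C.card]
      exact h.trans (card_subgroup_dvd_card _)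
    revert h1
    decide
  · rw [Subgroup.orderOf_mk]
    have : Fact (Nat.Prime 5) := ⟨by norm_num⟩
    exact orderOf_eq_prime hu hu1
  · rw [mem_center_iff]
    intro g
    exact Subtype.ext (mem_centralizer_singleton_iff.1 g.2)

end five

/-- **Row `(Fi22, 5)`.** -/
theorem bps_five : BpS 5 Spor.Fi22 := by
  have h5 : Nat.Prime 5 := by norm_num
  refine BpAlt.bpS_of_inner ?_ (CpAutFiFive.Fi22.inner h5 (by norm_num)) ?_
  · have := CpAutFiFive.Fi22.simple
    exact CpAut.center_eq_bot_of_simple CpAutFiFive.Fi22.not_comm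
  · intro g hg
    have C := Inst.ctx (MulEquiv.refl Spor.Fi22)
    exact good_five C (u := g) (by rw [← hg, pow_orderOf_eq_one]) (by
      rintro rfl
      rw [orderOf_one] at hg
      omega)

end Cfsg.Agent.BpSpor.FiTT

end

-- merged: Cfsg.Agent.BpSpor.FiTFFive
section

/-!
# S1332, row `(Fi24', 5)` (helper36)

The centralizer in `Fi24` of an element of order 5 maps onto `S9` with a kernel commuting with the subgroup `S9` generated by the
36 transpositions (helper47's `SNine`).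
-/

set_option autoImplicit false

namespace Cfsg.Agent.BpSpor.FiTF

open Subgroup Cfsg Cfsg.Agent.BpTab Equiv
open Cfsg.Spor (Fi24)
open Cfsg.Agent.LThreeFi24.SNine

universe u

/-- centralizers in a normal subgroup -/
theorem good_cent_of_normal {F : Type u} [Group F] [Finite F] {p : ℕ} [Fact p.Prime] (N : Subgroup F) [hN : N.Normal] (x : ↥N)
    (h : _root_.Cfsg.Agent.BpTab.Good p ↥(centralizer ({(x : F)} : Set F))) : Good p ↥(centralizer ({x} : Set ↥N)) := by
  let H : Subgroup F := centralizer ({(x : F)} : Set F)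
  have hn : (N.subgroupOf H).Normal := inferInstance
  have h1 : _root_.Cfsg.Agent.BpTab.Good p ↥(N.subgroupOf H) := h.subnormal hn.isSubnormal
  refine h1.congr ?_
  exact
    { toFun := fun y => ⟨⟨(y : ↥H), y.2⟩, by
        rw [mem_centralizer_singleton_iff]
        exact Subtype.ext (mem_centralizer_singleton_iff.1 (y : ↥H).2)⟩
      invFun := fun y => ⟨⟨((y : ↥N) : F), mem_centralizer_singleton_iff.2 (congrArg Subtype.val
        (mem_centralizer_singleton_iff.1 y.2))⟩, (y : ↥N).2⟩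
      left_inv := fun _ => rfl
      right_inv := fun _ => rfl
      map_mul' := fun _ _ => rfl }

/-- conjugate elements -/
theorem good_cent_conj {F : Type u} [Group F] [Finite F] {p : ℕ} [Fact p.Prime] {x y : F} (g : F) (hg : g * x * g⁻¹ = y)
    (h : _root_.Cfsg.Agent.BpTab.Good p ↥(centralizer ({y} : Set F))) : Good p ↥(centralizer ({x} : Set F)) := by
  refine h.congr ?_
  exact
    { toFun := fun c => ⟨g⁻¹ * (c : F) * g, by
        have h1 := mem_centralizer_singleton_iff.1 c.2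
        rw [mem_centralizer_singleton_iff]
        calc g⁻¹ * (c : F) * g * x = g⁻¹ * ((c : F) * (g * x * g⁻¹)) * g := by group
          _ = g⁻¹ * ((g * x * g⁻¹) * (c : F)) * g := by rw [hg, h1]
          _ = x * (g⁻¹ * (c : F) * g) := by group⟩
      invFun := fun c => ⟨g * (c : F) * g⁻¹, by
        have h1 := mem_centralizer_singleton_iff.1 c.2
        rw [mem_centralizer_singleton_iff]
        calc g * (c : F) * g⁻¹ * y = g * ((c : F) * x) * g⁻¹ := by rw [← hg]; group
          _ = g * (x * (c : F)) * g⁻¹ := by rw [h1]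
          _ = y * (g * (c : F) * g⁻¹) := by rw [← hg]; group⟩
      left_inv := fun c => Subtype.ext (by
        change g * (g⁻¹ * (c : F) * g) * g⁻¹ = c
        group)
      right_inv := fun c => Subtype.ext (by
        change g⁻¹ * (g * (c : F) * g⁻¹) * g = c
        group)
      map_mul' := fun a b => Subtype.ext (by
        change g⁻¹ * ((a : F) * b) * g = g⁻¹ * (a : F) * g * (g⁻¹ * (b : F) * g)
        group) }

/-- the action of `C(y0)` on the nine letters -/
noncomputable def act : ↥G0 →* Perm (Fin 9) where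
  toFun x := (exists_R x.2).choose
  map_one' := R.uniq (exists_R (one_mem G0)).choose_spec R.one
  map_mul' a b := R.uniq (exists_R (mul_mem a.2 b.2)).choose_spec
    (R.mul (exists_R a.2).choose_spec (exists_R b.2).choose_spec)

theorem act_spec (x : ↥G0) : R (x : Fi24) (act x) := (exists_R x.2).choose_spec

theorem mem_ker {x : ↥G0} : x ∈ act.ker ↔ R (x : Fi24) 1 := by
  rw [MonoidHom.mem_ker]
  constructor
  · intro h
    have := act_spec x
    rwa [h] at this
  · intro h
    exact R.uniq (act_spec x) h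

/-- the kernel commutes with `S9` -/
theorem comm_ker {g n : Fi24} (hg : g ∈ S9) (hn : R n 1) : g * n = n * g := by
  induction hg using Subgroup.closure_induction with
  | mem y hy =>
    obtain ⟨m, rfl⟩ := hy
    exact (hn.comm m).symm
  | one => rw [one_mul, mul_one]
  | mul a b _ _ ha hb => rw [mul_assoc, hb, ← mul_assoc, ha, mul_assoc]
  | inv a _ ha =>
    have h3 : Commute a n := ha
    exact h3.inv_left.eq

theorem good_G0 : _root_.Cfsg.Agent.BpTab.Good 5 ↥G0 := by
  have hfin := Cfsg.Agent.R08.FiTwentyFour.finite_Fi24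
  have : Fact (Nat.Prime 5) := ⟨by norm_num⟩
  have hsurj : Function.Surjective act := by
    intro σ
    obtain ⟨g, hg, hR⟩ := lift σ
    exact ⟨⟨g, S9_le hg⟩, R.uniq (act_spec _) hR⟩
  have h5 : orderOf y0 = 5 := LThreeFi24.FiveConj.orderOf_y0
  refine good_of_quot (p := 5) act hsurj BpAlt.good_perm (S9.subgroupOf G0) ?_ ?_ ?_ (u := ⟨y0, ?_⟩) ?_ ?_ ?_
  · intro σ
    obtain ⟨g, hg, hR⟩ := lift σ
    exact ⟨⟨g, S9_le hg⟩, hg, R.uniq (act_spec _) hR⟩
  · intro s hs k hk
    exact Subtype.ext (comm_ker hs (mem_ker.1 hk))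
  · intro h
    have h1 : Nat.card ↥G0 = Nat.card ↥act.ker * (9).factorial := by
      rw [← Subgroup.card_mul_index act.ker, index_ker, MonoidHom.range_eq_top.2 hsurj, card_top, Nat.card_perm,
        Nat.card_fin]
    have h2 : 5 ^ 2 * (9).factorial ∣ Nat.card Fi24 := by
      refine (mul_dvd_mul_right h _).trans ?_
      rw [← h1]
      exact card_subgroup_dvd_card _
    rw [LThreeFi24.FiveConj.card_Fi24] at h2
    revert h2
    decide
  · exact mem_G0.2 rfl
  · exact mem_ker.2 fun i j hij => rho_y_T hij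
  · rw [Subgroup.orderOf_mk]
    exact h5
  · rw [mem_center_iff]
    intro g
    exact Subtype.ext (mem_G0.1 g.2)

/-- the rows of `Fi24'` from the centralizers in `Fi24` -/
theorem bps_of_cent {p : ℕ} (hp : p.Prime) (hp2 : p ≠ 2)
    (h : ∀ x : Fi24, x ∈ commutator Fi24 → orderOf x = p → _root_.Cfsg.Agent.BpTab.Good p ↥(centralizer ({x} : Set Fi24))) : BpS p Spor.Fi24' := by
  have hfin := Cfsg.Agent.R08.FiTwentyFour.finite_Fi24
  have : Fact p.Prime := ⟨hp⟩
  have hs : IsSimpleGroup Spor.Fi24' := Cfsg.Agent.S1698.result.1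
  have hc : center Spor.Fi24' = ⊥ := center_eq_bot_of_card hs (by
    rw [Cfsg.Agent.S1698.result.2]
    norm_num)
  refine bpS_of_inner hc (Inn.fi24 ⟨MulEquiv.refl _⟩ p hp hp2) ?_
  intro x hx
  refine good_cent_of_normal (_root_.commutator Fi24) x (h x x.2 ?_)
  rw [← hx]
  exact orderOf_injective (commutator Fi24).subtype (Subgroup.subtype_injective _) x

/-- **Row `(Fi24', 5)`.** -/
theorem bps_five : BpS 5 Spor.Fi24' := by
  have hfin := Cfsg.Agent.R08.FiTwentyFour.finite_Fi24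
  have : Fact (Nat.Prime 5) := ⟨by norm_num⟩
  refine bps_of_cent (by norm_num) (by norm_num) fun x _ hx => ?_
  obtain ⟨g, hg⟩ := LThreeFi24.FiveConj.exists_conj_five hx
  exact good_cent_conj g hg good_G0

end Cfsg.Agent.BpSpor.FiTF

end

-- merged: Cfsg.Agent.BpSpor.FiSeven
section

/-!
# S1332: the row `Fi24'`, `p = 7`

* `good_of_index` : `C` normal of index prime to `p` in `H`, `Good p C`: `Good p H`;
* `good_of_perm` : `f : H →* S_7`, the centralizer of the kernel maps onto `A_7` or `S_7`, the kernel contains a central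
  element of order `7` of `H` and has order not divisible by `49`: `Good 7 H`;
* `Fi24.bps_seven` : `BpS 7 Spor.Fi24'`.
-/

set_option autoImplicit false

namespace Cfsg.Agent.BpSpor.FiSeven

open Subgroup Cfsg Equiv Equiv.Perm
open Cfsg.Agent.Lib Cfsg.Agent.SignalizersComponents
open Cfsg.Agent.BpTab Cfsg.Agent.CpAutFiSeven
open Cfsg.Agent.Intrinsic.Charac (isPComponent_iff)

/-- the `p`-layer lies in every normal subgroup of index prime to `p` -/
theorem pLayer_le {H : Type*} [Group H] [Finite H] {p : ℕ} [hp : Fact p.Prime] (C : Subgroup H) [C.Normal]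
    (h : ¬ p ∣ C.index) : pLayer p H ≤ C := by
  refine sSup_le fun J hJ => ?_
  obtain ⟨-, -, h3⟩ := isPComponent_iff.mp hJ
  rw [← h3]
  refine (Subgroup.closure_le _).mpr ?_
  rintro y ⟨-, n, hn⟩
  have h1 : (y : H ⧸ C) ^ p ^ n = 1 := by rw [← QuotientGroup.mk_pow, hn]; rfl
  have h2 : (y : H ⧸ C) ^ Nat.card (H ⧸ C) = 1 := pow_card_eq_one'
  have h3 : (Nat.card (H ⧸ C)).Coprime (p ^ n) := by
    refine Nat.Coprime.pow_right n ?_
    rw [Nat.coprime_comm, hp.out.coprime_iff_not_dvd]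
    exact h
  have h4 : (y : H ⧸ C) ^ (Nat.card (H ⧸ C)).gcd (p ^ n) = 1 := pow_gcd_eq_one.mpr ⟨h2, h1⟩
  rw [h3, pow_one] at h4
  exact (QuotientGroup.eq_one_iff y).1 h4

theorem good_of_index {H : Type*} [Group H] [Finite H] {p : ℕ} [hp : Fact p.Prime] (C : Subgroup H) [hC : C.Normal]
    (h : ¬ p ∣ C.index) (hg : Good p ↥C) : Good p H :=
  Good.of_normal hC hg (pLayer_le C h)

/-- groups between `A_n` and `S_n` -/
theorem good_perm {n p : ℕ} [hp : Fact p.Prime] (hn : 5 ≤ n) (R : Subgroup (Perm (Fin n)))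
    (hR : alternatingGroup (Fin n) ≤ R) : Good p ↥R := by
  have hs : IsSimpleGroup ↥(alternatingGroup (Fin n)) :=
    alternatingGroup.isSimpleGroup (by rw [Nat.card_eq_fintype_card, Fintype.card_fin]; exact hn)
  have hN : ((alternatingGroup (Fin n)).subgroupOf R).Normal := inferInstance
  refine Good.of_solvable_quotient (N := (alternatingGroup (Fin n)).subgroupOf R)
    ((good_of_simple hs).congr (subgroupOfEquivOfLe hR).symm) ?_
  refine Group.isSolvable_of_comm fun a b => ?_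
  induction a using QuotientGroup.induction_on with
  | H a =>
    induction b using QuotientGroup.induction_on with
    | H b =>
      rw [← QuotientGroup.mk_mul, ← QuotientGroup.mk_mul, QuotientGroup.eq, mem_subgroupOf, mem_alternatingGroup]
      change sign (((a : Perm (Fin n)) * (b : Perm (Fin n)))⁻¹ * ((b : Perm (Fin n)) * (a : Perm (Fin n)))) = 1
      rw [map_mul, map_inv, map_mul, map_mul, mul_comm (sign (b : Perm (Fin n)))]
      exact inv_mul_cancel _

theorem good_of_perm {H : Type*} [Group H] [Finite H] (f : H →* Perm (Fin 7))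
    (hA : alternatingGroup (Fin 7) ≤ (centralizer (f.ker : Set H)).map f) {x : H} (hxc : ∀ g : H, g * x = x * g)
    (hx : orderOf x = 7) (hfx : f x = 1) (hk : ¬ 49 ∣ Nat.card ↥f.ker) : Good 7 H := by
  have hp : Fact (Nat.Prime 7) := ⟨by norm_num⟩
  obtain ⟨C, hC⟩ : ∃ C, C = centralizer (f.ker : Set H) := ⟨_, rfl⟩
  have hCn : C.Normal := by rw [hC]; infer_instance
  rw [← hC] at hA
  let g : ↥C →* ↥(C.map f) := f.subgroupMap C
  have hgs : Function.Surjective g := f.subgroupMap_surjective C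
  have hxC : x ∈ C := by
    rw [hC, mem_centralizer_iff]
    exact fun y _ => hxc y
  refine good_of_index C ?_ ?_
  · intro h7
    have h1 : Nat.card ↥g.ker * Nat.card ↥(C.map f) = Nat.card ↥C := by
      rw [← g.ker.card_mul_index, index_ker, MonoidHom.range_eq_top.2 hgs, card_top]
    have h2 : Nat.card ↥f.ker * Nat.card ↥f.range = Nat.card H := by
      rw [← f.ker.card_mul_index, index_ker]
    have h3 : 7 ∣ Nat.card ↥g.ker := by
      have h4 : (⟨x, hxC⟩ : ↥C) ∈ g.ker := by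
        rw [MonoidHom.mem_ker]
        exact Subtype.ext hfx
      have h5 := Subgroup.orderOf_dvd_natCard g.ker h4
      rwa [orderOf_mk, hx] at h5
    have h4 : 2520 ∣ Nat.card ↥(C.map f) := by
      have h5 := card_dvd_of_le hA
      have h6 : Nat.card ↥(alternatingGroup (Fin 7)) = 2520 := by
        rw [nat_card_alternatingGroup, Nat.card_fin]
        rfl
      rwa [h6] at h5
    have h5 : Nat.card ↥f.range ∣ 5040 := by
      have h6 := card_subgroup_dvd_card f.range
      rw [Nat.card_perm, Nat.card_fin] at h6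
      exact h6
    have h6 : 7 * (7 * 2520) ∣ Nat.card ↥f.ker * 5040 := by
      have h7' : 7 * Nat.card ↥C ∣ Nat.card H := by
        rw [← C.card_mul_index, mul_comm]
        exact mul_dvd_mul_left _ h7
      have h8 : 7 * (7 * 2520) ∣ 7 * Nat.card ↥C := by
        rw [← h1]
        exact mul_dvd_mul_left 7 (mul_dvd_mul h3 h4)
      refine (h8.trans h7').trans ?_
      rw [← h2]
      exact mul_dvd_mul_left _ h5
    apply hk
    have h7' : 2520 * 49 ∣ 2520 * (2 * Nat.card ↥f.ker) := by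
      refine Dvd.dvd.trans ?_ (h6.trans (dvd_of_eq ?_))
      · norm_num
      · ring
    have h8 : 49 ∣ 2 * Nat.card ↥f.ker := Nat.dvd_of_mul_dvd_mul_left (by norm_num) h7'
    exact (by norm_num : Nat.Coprime 49 2).dvd_of_dvd_mul_left h8
  · refine (good_perm (by norm_num) (C.map f) hA).of_surjective hgs ?_
    intro a ha
    rw [mem_centralizer_iff]
    intro b _
    apply Subtype.ext
    have h1 : (a : H) ∈ f.ker := congrArg Subtype.val ((MonoidHom.mem_ker).1 ha)
    have h2 : ∀ c ∈ C, ∀ d ∈ f.ker, d * c = c * d := by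
      rw [hC]
      exact fun c hc d hd => mem_centralizer_iff.1 hc d hd
    exact (h2 b b.2 a h1).symm

section Tri

variable {F : Type*} [Group F] [Finite F] {L : Set F} {N : Subgroup F} {x : ↥N} {t : Fin 7 → Fin 7 → F}

theorem good_of_tri (h : Tri L (x : F) t) (hL : ∀ d ∈ L, ∀ g : F, g * d * g⁻¹ ∈ L)
    (hN : ∀ d ∈ L, ∀ e ∈ L, d * e ∈ N) (hx : orderOf x = 7)
    (hc : ∀ d ∈ L, ¬ 49 ∣ Nat.card ↥(centralizer {d} : Subgroup F)) : Good 7 ↥(centralizer {x} : Subgroup ↥N) := by
  let ι : ↥(centralizer {x} : Subgroup ↥N) →* F := N.subtype.comp (centralizer {x}).subtype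
  have hιinj : Function.Injective ι := N.subtype_injective.comp (centralizer {x}).subtype_injective
  have hmem : ∀ g : ↥(centralizer {x} : Subgroup ↥N), (g : ↥N) * x = x * (g : ↥N) := fun g =>
    (mem_centralizer_singleton_iff.1 g.2)
  obtain ⟨f, hf⟩ := h.exists_hom hL ι (fun g => congrArg Subtype.val (hmem g))
  let x' : ↥(centralizer {x} : Subgroup ↥N) := ⟨x, mem_centralizer_singleton_iff.2 rfl⟩
  have hker : ∀ g ∈ f.ker, ∀ i j, i ≠ j → ι g * t i j = t i j * ι g := by
    intro g hg i j hij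
    have h3 := hf g i j hij
    rw [(MonoidHom.mem_ker).1 hg] at h3
    exact mul_inv_eq_iff_eq_mul.1 h3
  refine good_of_perm f ?_ (x := x') ?_ ?_ ?_ ?_
  · -- the range
    apply alt_le
    rintro _ _ ⟨i, j, hij, rfl⟩ ⟨k, l, hkl, rfl⟩
    have h1 : t i j * t k l ∈ N := hN _ (h.mem i j hij) _ (h.mem k l hkl)
    have h2 : (⟨t i j * t k l, h1⟩ : ↥N) ∈ centralizer {x} := by
      rw [mem_centralizer_singleton_iff]
      apply Subtype.ext
      change t i j * t k l * x = x * (t i j * t k l)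
      rw [mul_assoc, ← h.comm k l hkl, ← mul_assoc, ← h.comm i j hij, mul_assoc]
    refine ⟨⟨⟨_, h1⟩, h2⟩, ?_, ?_⟩
    · rw [SetLike.mem_coe, mem_centralizer_iff]
      intro g hg
      apply hιinj
      rw [map_mul, map_mul]
      change ι g * (t i j * t k l) = t i j * t k l * ι g
      rw [← mul_assoc, hker g hg i j hij, mul_assoc, hker g hg k l hkl, mul_assoc]
    apply h.perm_unique
    intro a b hab
    rw [← hf _ a b hab]
    change t i j * t k l * t a b * (t i j * t k l)⁻¹ = _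
    rw [Perm.mul_apply, Perm.mul_apply, ← h.conj i j _ _ hij (fun h3 => hab ((swap k l).injective h3)),
      ← h.conj k l a b hkl hab]
    group
  · intro g
    exact Subtype.ext (hmem g)
  · rw [← hx, Subgroup.orderOf_mk]
  · apply h.perm_unique
    intro a b hab
    rw [← hf _ a b hab]
    change (x : F) * t a b * (x : F)⁻¹ = t a b
    rw [h.comm a b hab, mul_inv_cancel_right]
  · intro h1
    refine hc (t 0 1) (h.mem 0 1 (by decide)) (h1.trans ?_)
    have h2 : Nat.card ↥(f.ker.map ι) = Nat.card ↥f.ker := card_map_of_injective hιinj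
    rw [← h2]
    apply card_dvd_of_le
    rintro _ ⟨g, hg, rfl⟩
    rw [mem_centralizer_singleton_iff]
    exact hker g hg 0 1 (by decide)

end Tri

open Cfsg.Agent.R08.FiTwentyFour (L)

/-- the centralizer of an element of order 7 of `Fi24'` -/
theorem good_cent (FT : ∀ (K : Type) [Group K] [Finite K], Odd (Nat.card K) → Group.IsSolvable K) (x : Spor.Fi24')
    (hx : orderOf x = 7) : Good 7 ↥(centralizer {x} : Subgroup Spor.Fi24') := by
  have hfin : Finite Spor.Fi24 := R08.FiTwentyFour.finite_Fi24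
  have hfin' : Finite Spor.Fi24' := inferInstanceAs (Finite ↥(commutator Spor.Fi24))
  by_cases h1 : ∃ d ∈ L, (x : Spor.Fi24) * d = d * x
  · obtain ⟨d, hd, hxd⟩ := h1
    have hx' : orderOf (x : Spor.Fi24) = 7 := (Subgroup.orderOf_coe x).trans hx
    obtain ⟨t, ht⟩ := tri hx' hd hxd
    exact good_of_tri (F := Spor.Fi24) (N := commutator Spor.Fi24) ht (fun d hd g => R08.FiTwentyFour.conj hd g)
      (fun d hd e he => R08.FiTwentyFour.even hd he) hx (fun d hd => card_cent hd)
  · push Not at h1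
    exact good_of_solvable (solvable_of_not_four FT (not_four_cent hx h1))

end Cfsg.Agent.BpSpor.FiSeven

namespace Cfsg.Agent.BpSpor.Fi24

open Cfsg

/-- **the row `Fi24'`, `p = 7` of S1332** -/
theorem bps_seven (FT : ∀ (K : Type) [Group K] [Finite K], Odd (Nat.card K) → Group.IsSolvable K) :
    BpTab.BpS 7 Spor.Fi24' :=
  bpS_of_inner CpAutFiSeven.center_eq_bot CpAutFiSeven.autInner (FiSeven.good_cent FT)

end Cfsg.Agent.BpSpor.Fi24

end

-- merged: Cfsg.Agent.BpSpor.HNRowThree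
section

/-!
# S1332: the row `BpS 3 HN` (helper25)
-/

set_option autoImplicit false

namespace Cfsg.Agent.BpSpor.HN

open Subgroup Cfsg
open Cfsg.Agent.BpTab Cfsg.Agent.CpAut

theorem center_bot : center Spor.HN = ⊥ := by
  apply CpAut.center_eq_bot_of_simple
  intro h
  apply CpAutHN.Main.not_comm_A9
  apply CpAutHN.Second.ι_inj
  apply CpAutHN.Alt.Φ_inj
  rw [map_mul, map_mul, map_mul, map_mul]
  exact h.is_comm.comm _ _

/-- **The row HN, `p = 3`.** -/
theorem bps_three : BpS 3 Spor.HN :=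
  bpS_of_inner center_bot (CpAutHN.Main.autInner 3 (by norm_num) (by norm_num))
    fun _ hg => HNThree.good_three (fun _ _ _ h => S0205.result h) hg

end Cfsg.Agent.BpSpor.HN

end

-- merged: Cfsg.Agent.BpSpor.HNRowFive
section

/-!
# S1332: the row `BpS 5 HN` (helper42)

The case distinction of `CpAutHNFive/TauFive.lean` (helper89) with `BpTab.Good 5` in place of the two good cases there.
-/

set_option autoImplicit false

namespace Cfsg.Agent.BpSpor.HNFive

open Cfsg.Agent.HN.Pres Cfsg.Agent.HN.H0Basic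
open Cfsg.Agent.HN.P1408 hiding ψ
open Cfsg.Agent.HN.XWords (W0 W0_sq)
open Cfsg.Agent.HN.NormalH (ψ)
open Cfsg Cfsg.Agent
open Cfsg.Agent.KFacts.HN
open Cfsg.Agent.CpAutHNFive Cfsg.Agent.CpAutHNFive.LFive Cfsg.Agent.CpAutHNFive.PFive
open Cfsg.Agent.CpAutHNFive.TFive Cfsg.Agent.CpAutHNFive.HTab Cfsg.Agent.CpAutHNFive.HFacts
open Cfsg.Agent.CpAutHNFive.TauFive (cequiv cequiv_pow centralizer_pow map_centralizer card_pair solvable_three)
open Subgroup

theorem cases_PP (FT : ∀ (K : Type) [Group K] [Finite K], Odd (Nat.card K) → Group.IsSolvable K)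
    (h204 : ∀ (K : Type) [Group K] [Finite K] [IsSimpleGroup K], ¬ IsCyclic K → ∃ E : Subgroup K, IsKleinFour E)
    {x : G} (hx : orderOf x = 5) (hxW : x * W0 = W0 * x) : BpTab.Good 5 ↥(centralizer ({x} : Set G)) ∨
      ((∃ v : G, IsConj (ψ τ) v ∧ v * x = x * v) ∧
        Nat.card ↥(centralizer ({x} : Set G) ⊓ centralizer ({W0} : Set G) : Subgroup G) ∣ 100) := by
  have : Fact (Nat.Prime 5) := ⟨Nat.prime_five⟩
  have hxP : orderOf (⟨x, mem_PP.2 hxW⟩ : PP) = 5 := by rw [← Subgroup.orderOf_coe]; exact hx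
  obtain ⟨g, m, hm1, hm5, h⟩ := conj_std hxP
  let y : PP := g * ⟨x, mem_PP.2 hxW⟩ ^ m * g⁻¹
  have hy : (y : G) = (g : G) * x ^ m * (g : G)⁻¹ := rfl
  have hy5 : orderOf y = 5 := by
    have h1 : orderOf ((⟨x, mem_PP.2 hxW⟩ : PP) ^ m) = 5 := by
      rw [orderOf_pow, hxP]
      interval_cases m <;> rfl
    rw [← h1]
    exact MulEquiv.orderOf_eq (MulAut.conj g) _
  obtain ⟨e⟩ := cequiv_pow hx hm1 hm5 hy.symm
  rcases h with h | h | h
  · exact Or.inl ((noComp_one FT h204 hy5 h).good.congr e.symm)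
  · rcases type_three FT h with h1 | ⟨v, hv, hvy⟩
    · exact Or.inl ((BpTab.good_of_solvable h1).congr e.symm)
    · right
      refine ⟨⟨(g : G)⁻¹ * v * g, hv.trans (isConj_iff.2 ⟨(g : G)⁻¹, by rw [inv_inv]⟩), ?_⟩, ?_⟩
      · have h2 : (g : G)⁻¹ * v * g ∈ centralizer ({x ^ m} : Set G) := by
          rw [mem_centralizer_singleton_iff]
          have h3 : v * ((g : G) * x ^ m * (g : G)⁻¹) = (g : G) * x ^ m * (g : G)⁻¹ * v := hvy
          calc (g : G)⁻¹ * v * g * x ^ m = (g : G)⁻¹ * (v * ((g : G) * x ^ m * (g : G)⁻¹)) * g := by group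
            _ = (g : G)⁻¹ * ((g : G) * x ^ m * (g : G)⁻¹ * v) * g := by rw [h3]
            _ = _ := by group
        rw [centralizer_pow hx hm1 hm5] at h2
        exact mem_centralizer_singleton_iff.1 h2
      · have h2 := card_three (x := y) h
        rw [card_pair] at h2
        have h3 : (centralizer ({x} : Set G) ⊓ centralizer ({W0} : Set G)).map (MulAut.conj (g : G)).toMonoidHom =
            centralizer ({(y : G)} : Set G) ⊓ centralizer ({W0} : Set G) := by
          have hgW : (g : G) * W0 * (g : G)⁻¹ = W0 := by rw [mem_PP.1 g.2, mul_inv_cancel_right]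
          rw [Subgroup.map_inf _ _ _ (MulAut.conj (g : G)).injective, ← centralizer_pow hx hm1 hm5, map_centralizer,
            map_centralizer, hgW, hy]
        rw [← h3] at h2
        rwa [← Nat.card_congr ((centralizer ({x} : Set G) ⊓ centralizer ({W0} : Set G)).equivMapOfInjective
          (MulAut.conj (g : G)).toMonoidHom (MulAut.conj (g : G)).injective).toEquiv] at h2
  · exact Or.inl ((BpTab.good_of_solvable (type_two FT hy5 h)).congr e.symm)

theorem good_one (FT : ∀ (K : Type) [Group K] [Finite K], Odd (Nat.card K) → Group.IsSolvable K)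
    (h204 : ∀ (K : Type) [Group K] [Finite K] [IsSimpleGroup K], ¬ IsCyclic K → ∃ E : Subgroup K, IsKleinFour E) :
    BpTab.Good 5 ↥(centralizer ({ψ (hw w1)} : Set G)) := by
  have := finite_H0
  have hW : W0 = ψ (Cfsg.Agent.HN.Syl.a * τ) := Cfsg.Agent.HN.XWords.W0_eq
  have hx : orderOf (ψ (hw w1)) = 5 := by rw [orderOf_injective _ emb.inj, order_w1]
  have hc : Cfsg.Agent.HN.Syl.a * τ * hw w1 = hw w1 * (Cfsg.Agent.HN.Syl.a * τ) := by
    rw [mul_assoc, ← τ_comm, ← mul_assoc, a_comm, mul_assoc]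
  rcases cases_PP FT h204 hx (by rw [hW, ← map_mul, ← map_mul, hc]) with h | ⟨-, h⟩
  · exact h
  · exfalso
    have h1 : (zpowers τ ⊔ zpowers (hw wq)).map ψ ≤
        centralizer ({ψ (hw w1)} : Set G) ⊓ centralizer ({W0} : Set G) := by
      rw [map_le_iff_le_comap, sup_le_iff, zpowers_le, zpowers_le]
      constructor
      · refine ⟨mem_centralizer_singleton_iff.2 ?_, mem_centralizer_singleton_iff.2 ?_⟩
        · rw [← map_mul, ← map_mul, τ_comm]
        · rw [hW, ← map_mul, ← map_mul, ← τ_comm (Cfsg.Agent.HN.Syl.a * τ)]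
      · refine ⟨mem_centralizer_singleton_iff.2 ?_, mem_centralizer_singleton_iff.2 ?_⟩
        · rw [← map_mul, ← map_mul, q_comm]
        · have h2 : hw wq * (Cfsg.Agent.HN.Syl.a * τ) = Cfsg.Agent.HN.Syl.a * τ * hw wq := by
            rw [← mul_assoc, q_comm_a, mul_assoc, τ_comm, ← mul_assoc]
          rw [hW, ← map_mul, ← map_mul, h2]
    have h8 : 8 ∣ Nat.card ↥(zpowers τ ⊔ zpowers (hw wq) : Subgroup H0) := by
      have ht : τ ∈ zpowers τ ⊔ zpowers (hw wq) := mem_sup_left (mem_zpowers _)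
      have hq : hw wq ∈ zpowers τ ⊔ zpowers (hw wq) := mem_sup_right (mem_zpowers _)
      have h3 := mul_order_dvd (C := ↥(zpowers τ ⊔ zpowers (hw wq) : Subgroup H0)) (a := ⟨τ, ht⟩) (b := ⟨hw wq, hq⟩)
        (Subtype.ext (τ_comm _).symm)
        (inf_eq_bot_of_prime Nat.prime_two (by rw [← Subgroup.orderOf_coe]; exact order_τ) (by
          intro h
          apply τ_not_mem
          obtain ⟨k, hk⟩ := mem_zpowers_iff.1 h
          exact mem_zpowers_iff.2 ⟨k, congrArg Subtype.val hk⟩))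
      rw [← Subgroup.orderOf_coe, ← Subgroup.orderOf_coe] at h3
      change orderOf τ * orderOf (hw wq) ∣ _ at h3
      rw [order_τ, order_q] at h3
      exact h3
    have h9 := (card_dvd_of_le h1).trans h
    rw [← Nat.card_congr ((zpowers τ ⊔ zpowers (hw wq)).equivMapOfInjective ψ emb.inj).toEquiv] at h9
    have h10 := h8.trans h9
    norm_num at h10

theorem main_cases (FT : ∀ (K : Type) [Group K] [Finite K], Odd (Nat.card K) → Group.IsSolvable K)
    (h204 : ∀ (K : Type) [Group K] [Finite K] [IsSimpleGroup K], ¬ IsCyclic K → ∃ E : Subgroup K, IsKleinFour E)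
    {x u : G} (hx : orderOf x = 5) (hu : orderOf u = 2) (hux : u * x = x * u) :
    BpTab.Good 5 ↥(centralizer ({x} : Set G)) ∨
      Nonempty (↥(centralizer ({x} : Set G)) ≃* ↥(centralizer ({ψ (hw w2)} : Set G))) := by
  have : Fact (Nat.Prime 5) := ⟨Nat.prime_five⟩
  -- conjugates of `ψ τ`
  have key : ∀ v : G, IsConj (ψ τ) v → v * x = x * v → BpTab.Good 5 ↥(centralizer ({x} : Set G)) ∨
      Nonempty (↥(centralizer ({x} : Set G)) ≃* ↥(centralizer ({ψ (hw w2)} : Set G))) := by
    intro v hv hvx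
    obtain ⟨c, hc⟩ := isConj_iff.1 hv.symm
    have h1 : c * x * c⁻¹ * ψ τ = ψ τ * (c * x * c⁻¹) := by
      rw [← hc]
      calc c * x * c⁻¹ * (c * v * c⁻¹) = c * (x * v) * c⁻¹ := by group
        _ = c * (v * x) * c⁻¹ := by rw [hvx]
        _ = _ := by group
    obtain ⟨y, hy⟩ := emb.cent _ h1
    have hy5 : orderOf y = 5 := by
      rw [← orderOf_injective ψ emb.inj, hy, ← hx]
      exact MulEquiv.orderOf_eq (MulAut.conj c) x
    obtain ⟨g, m, hm1, hm5, w, hw', hg⟩ := five_conj hy5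
    have hw5 : orderOf (ψ (hw w)) = 5 := by
      rw [orderOf_injective _ emb.inj]
      rcases hw' with rfl | rfl | rfl
      · exact order_w1
      · exact order_w2
      · exact order_w3
    have h2 : (ψ g * c)⁻¹ * ψ (hw w) ^ m * ((ψ g * c)⁻¹)⁻¹ = x := by
      rw [← map_pow, ← hg, map_mul, map_mul, map_inv, hy]
      group
    obtain ⟨e⟩ := cequiv_pow hw5 hm1 hm5 h2
    rcases hw' with rfl | rfl | rfl
    · exact Or.inl ((good_one FT h204).congr e)
    · exact Or.inr ⟨e.symm⟩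
    · exact Or.inl ((BpTab.good_of_solvable (solvable_three FT)).congr e)
  rcases Classes.inv_class hu with h | h
  · exact key u h.symm hux
  · obtain ⟨c, hc⟩ := isConj_iff.1 h
    have h1 : c * x * c⁻¹ * W0 = W0 * (c * x * c⁻¹) := by
      rw [← hc]
      calc c * x * c⁻¹ * (c * u * c⁻¹) = c * (x * u) * c⁻¹ := by group
        _ = c * (u * x) * c⁻¹ := by rw [hux]
        _ = _ := by group
    have h5 : orderOf (c * x * c⁻¹) = 5 := by
      rw [← hx]
      exact MulEquiv.orderOf_eq (MulAut.conj c) x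
    rcases cases_PP FT h204 h5 h1 with h2 | ⟨⟨v, hv, hvx⟩, -⟩
    · exact Or.inl (h2.congr (cequiv c x).symm)
    · refine key (c⁻¹ * v * c) (hv.trans (isConj_iff.2 ⟨c⁻¹, by rw [inv_inv]⟩)) ?_
      calc c⁻¹ * v * c * x = c⁻¹ * (v * (c * x * c⁻¹)) * c := by group
        _ = c⁻¹ * (c * x * c⁻¹ * v) * c := by rw [hvx]
        _ = _ := by group

/-- **`Good 5 C(x)`** for `x` of order 5 -/
theorem good_five (FT : ∀ (K : Type) [Group K] [Finite K], Odd (Nat.card K) → Group.IsSolvable K)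
    (h204 : ∀ (K : Type) [Group K] [Finite K] [IsSimpleGroup K], ¬ IsCyclic K → ∃ E : Subgroup K, IsKleinFour E)
    {x : G} (hx : orderOf x = 5) : BpTab.Good 5 ↥(centralizer ({x} : Set G)) := by
  have : Fact (Nat.Prime 5) := ⟨Nat.prime_five⟩
  have : Fact (Nat.Prime 2) := ⟨Nat.prime_two⟩
  rcases Nat.even_or_odd (Nat.card ↥(centralizer ({x} : Set G))) with he | ho
  · obtain ⟨u, hu⟩ := exists_prime_orderOf_dvd_card' 2 (even_iff_two_dvd.1 he)
    rcases main_cases FT h204 hx (u := (u : G)) (by rw [Subgroup.orderOf_coe, hu])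
      (mem_centralizer_singleton_iff.1 u.2) with h | ⟨⟨e⟩⟩
    · exact h
    · exact (good_two FT h204).congr e.symm
  · exact BpTab.good_of_solvable (FT _ ho)

end Cfsg.Agent.BpSpor.HNFive

namespace Cfsg.Agent.BpSpor.HN

/-- **The row HN, `p = 5`.** -/
theorem bps_five : BpTab.BpS 5 Spor.HN :=
  bpS_of_inner CpAutHNFive.Main.center_HN (CpAutHNFive.Main.autInner Nat.prime_five (by norm_num)) fun _ hg =>
    HNFive.good_five (fun _ _ _ h => S0205.result h) (fun K _ _ _ h => S0204.result h) hg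

end Cfsg.Agent.BpSpor.HN

end

-- merged: Cfsg.Agent.BpSpor.HSRow
section

/-!
# S1332: `HS`, `p = 3` and `p = 5` (helper22)
-/

set_option autoImplicit false

namespace Cfsg.Agent.BpSpor.HSInv

open Cfsg Cfsg.Agent.BpTab

universe u

theorem row {K : Type u} [Group K] (h : Spor.IsoHS K) {p : ℕ} (hp : p = 3 ∨ p = 5) : BpS p K := by
  have D := Row.dat_hs h
  have hfin : Finite K := Nat.finite_of_card_ne_zero (by rw [D.card]; norm_num)
  have hpp : p.Prime := by rcases hp with rfl | rfl <;> norm_num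
  have hF : Fact p.Prime := ⟨hpp⟩
  have hp2 : p ≠ 2 := by rcases hp with rfl | rfl <;> norm_num
  obtain ⟨M⟩ := Cfsg.Agent.KFacts.HS.exists_mod h
  exact BdRow.bps_of_bd hp2 (center_eq_bot_of_card D.simple (by rw [D.card]; norm_num)) (D.inn p hpp hp2)
    (bd M hp)

theorem bps_three : BpS 3 Spor.HS := row ⟨MulEquiv.refl _⟩ (Or.inl rfl)

theorem bps_five : BpS 5 Spor.HS := row ⟨MulEquiv.refl _⟩ (Or.inr rfl)

end Cfsg.Agent.BpSpor.HSInv

end

-- merged: Cfsg.Agent.BpSpor.HeRowThree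
section

/-!
# S1332: `He`, `p = 3` (helper22)
-/

set_option autoImplicit false

namespace Cfsg.Agent.BpSpor.HeThree

open Cfsg Cfsg.Agent.BpTab

theorem bps_three : BpS 3 Spor.He := by
  have D := Row.dat_he (K := Spor.He) ⟨MulEquiv.refl _⟩
  have hfin : Finite Spor.He := finite_he
  have hF : Fact (Nat.Prime 3) := ⟨Nat.prime_three⟩
  exact BdRow.bps_of_bd (by norm_num) (center_eq_bot_of_card D.simple (by rw [D.card]; norm_num))
    (D.inn 3 Nat.prime_three (by norm_num)) bd

end Cfsg.Agent.BpSpor.HeThree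

end

-- merged: Cfsg.Agent.BpSpor.LowJTwo
section

/-!
# S1332, the row `J2`, `p = 3` (helper70)
-/

set_option autoImplicit false

namespace Cfsg.Agent.BpSpor.J2

open Subgroup Cfsg Cfsg.Agent.BpTab

universe u

/-- **S1332, the row `J2`, `p = 3`** -/
theorem bps_three : BpS 3 Spor.J2 := by
  have D := Row.dat_j2 (K := Spor.J2) ⟨MulEquiv.refl _⟩
  have hp : Fact (Nat.Prime 3) := ⟨Nat.prime_three⟩
  have hf : Finite Spor.J2 := Nat.finite_of_card_ne_zero (by rw [D.card]; norm_num)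
  refine RowTool.bps_of_inner (center_eq_bot_of_card D.simple (by rw [D.card]; norm_num))
    (D.inn 3 hp.out (by norm_num)) fun g hg => RowTool.good_sub _ (fun _ h64 => ?_) ?_ ?_ ?_ ?_
  · rcases CpAutTThree.JTwo.card_three hg with h1 | h1 <;> rw [h1] at h64 <;> norm_num at h64
  · intro h; exact absurd rfl h
  · intro _; rw [D.card]; norm_num
  · intro _; rw [D.card]; norm_num
  · intro r hr h11 _
    exact RowTool.no_sq 7 3 2 1 [] (D.card.trans (by norm_num)) (by simp) (by simp) r hr h11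

end Cfsg.Agent.BpSpor.J2

end

-- merged: Cfsg.Agent.BpSpor.LowRu
section

/-!
# S1332, the row `Ru`, `p = 5` (helper70)
-/

set_option autoImplicit false

namespace Cfsg.Agent.BpSpor.Ru

open Subgroup Cfsg Cfsg.Agent.BpTab

/-- **S1332, the row `Ru`, `p = 5`** -/
theorem bps_five : BpS 5 Spor.Ru := by
  have hp : Fact (Nat.Prime 5) := ⟨by norm_num⟩
  have hf := CpAutRuFive.finite_H
  have D := Row.dat_ru (K := SporadicB.RuOrder.H) ⟨RuLat.Main.equiv.symm⟩
  refine BpS.congr ?_ RuLat.Main.equiv.symm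
  refine RowTool.bps_of_inner (center_eq_bot_of_card D.simple (by rw [D.card]; norm_num))
    (D.inn 5 hp.out (by norm_num)) fun g hg => RowTool.good_sub _ (fun _ h64 => ?_) ?_ ?_ ?_ ?_
  · exact CpAutRuFive.not_dvd hg h64
  · intro _; rw [D.card]; norm_num
  · intro h; exact absurd rfl h
  · intro _; rw [D.card]; norm_num
  · intro r hr h11 _
    exact RowTool.no_sq 14 3 3 1 [13, 29] (D.card.trans (by norm_num)) (by simp; norm_num) (by simp) r hr h11

end Cfsg.Agent.BpSpor.Ru

end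

-- merged: Cfsg.Agent.BpSpor.Tits
section

/-!
# S1332: the rows of the Tits group, `p = 3, 5` (helper77)

`|C(x)| = 50` for the elements of order 5; no element of order 5 commutes with an element of order 3 (helper73), so
`|C(x)|` divides `2^11 * 3^3 * 13` for the elements of order 3.
-/

set_option autoImplicit false

namespace Cfsg.Agent.BpSpor.Tits

open Subgroup Cfsg Cfsg.Agent.BpTab Cfsg.Agent.BpSpor.RowTool

universe u

variable {X : Type u} [Group X] [Finite X] [IsSimpleGroup X]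

theorem bps_five (h : Lie.IsoTits X) : BpS 5 X := by
  have ho := CpAutTits.Row.out h
  refine bps_of_inner (CpAutTits.Row.center_bot ho) (CpAutTits.Row.autInner h (by norm_num) (by norm_num))
    fun g hg => ?_
  apply good_of_solvable
  exact S0144.result 2 5 1 2 (by norm_num) (by norm_num) (by rw [ho.cent g hg]; norm_num)

theorem bps_three (T : OrdDiv.OrderTable.{u}) (hcl : ∀ (S : Type u) [Group S] [Finite S], IsSimpleGroup S →
    IsKnownSimple' S) (h : Lie.IsoTits X) : BpS 3 X := by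
  have ho := CpAutTits.Row.out h
  refine bps_of_inner (CpAutTits.Row.center_bot ho) (CpAutTits.Row.autInner h (by norm_num) (by norm_num))
    fun g hg => ?_
  refine good_centralizer T hcl (by norm_num) hg (N := 2 ^ 11 * 3 ^ 3 * 13) (l := [(2, 11), (3, 3), (13, 1)])
    ?_ (by decide +kernel) (by decide +kernel)
  have h1 : Nat.card ↥(centralizer ({g} : Set X)) ∣ 2 ^ 11 * 3 ^ 3 * 13 * 5 ^ 2 := by
    have h2 := card_subgroup_dvd_card (centralizer ({g} : Set X))
    rw [ho.card] at h2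
    have h3 : 2 ^ 11 * 3 ^ 3 * 5 ^ 2 * 13 = 2 ^ 11 * 3 ^ 3 * 13 * 5 ^ 2 := by norm_num
    rwa [h3] at h2
  have h2 : ¬ 5 ∣ Nat.card ↥(centralizer ({g} : Set X)) := by
    intro h5
    have : Fact (Nat.Prime 5) := ⟨by norm_num⟩
    obtain ⟨y, hy⟩ := exists_prime_orderOf_dvd_card' (G := ↥(centralizer ({g} : Set X))) 5 h5
    refine ho.ncomm g (y : X) hg ?_ (mem_centralizer_singleton_iff.1 y.2).symm
    rw [← hy]
    exact orderOf_coe _
  have h3 : (Nat.card ↥(centralizer ({g} : Set X))).Coprime (5 ^ 2) :=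
    (((Nat.Prime.coprime_iff_not_dvd (by norm_num)).2 h2).symm).pow_right 2
  exact h3.dvd_of_dvd_mul_right h1

end Cfsg.Agent.BpSpor.Tits

end

-- merged: Cfsg.Agent.BpSpor.RuThreeRow
section

/-!
# S1332: `Ru`, `p = 3` (helper22)
-/

set_option autoImplicit false

namespace Cfsg.Agent.BpSpor.RuThree

open Subgroup Cfsg Cfsg.Agent.BpTab Cfsg.Agent.RuB Cfsg.Agent.RuB.Core Cfsg.Agent.RuB.Count Cfsg.Agent.RuB.NormQ
open Cfsg.Agent.RuB.NormZ Cfsg.Agent.KFacts.Ru

universe u

/-- the class 2A -/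
theorem bd_z {G : Type*} [Group G] [Finite G] (C : Core G) : Cen.Bd 3 (C.z 1) := by
  intro x hx hxz
  obtain ⟨K, hν, hμ, L, hcz⟩ := Cfsg.Agent.Ru127.Sg.exists_localData C
  have hz1 : C.z 1 ≠ 1 := fun h => one_ne_zero (C.z_eq_one h)
  have h5 := InvC.card_sig C _ Local.Zs_mem_ZZ _ (z_mem_Zs 1) hz1
  exact ⟨1, card_dvd L hz1 h5 hx hxz⟩

/-- no element of order 3 commutes with an involution of the class 2B -/
theorem bd_v {G : Type*} [Group G] [Finite G] (C : Core G) (hL : Nat.card ↥C.L = 29120) {a : A4} (ha : a ≠ 0) :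
    Cen.Bd 3 (C.v a) := by
  intro x hx hxv
  exfalso
  obtain ⟨b, l, hl, rfl⟩ := C.cent a ha x hxv
  have h1 : C.v b * l = l * C.v b := C.v_comm b l hl
  have h2 : (C.v b * l) ^ 3 = 1 := by rw [← hx]; exact pow_orderOf_eq_one _
  have h3 : C.v b * C.v b = 1 := C.v_sq b
  have h4 : C.v b * l ^ 3 = 1 := by
    have h5 : (C.v b * l) ^ 3 = C.v b ^ 3 * l ^ 3 := (Commute.mul_pow h1 3)
    rw [h5, pow_succ, pow_two, h3, one_mul] at h2
    exact h2
  have h5 : C.v b ∈ C.L := by
    rw [mul_eq_one_iff_eq_inv.1 h4]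
    exact inv_mem (pow_mem hl 3)
  have h6 : b = 0 := C.v_notin b h5
  subst h6
  have h7 : C.v 0 = 1 := by
    have h8 := C.v_add 0 0
    rw [add_zero] at h8
    exact left_eq_mul.1 h8
  rw [h7, one_mul] at hx
  have h8 : orderOf (⟨l, hl⟩ : ↥C.L) ∣ Nat.card ↥C.L := _root_.orderOf_dvd_natCard _
  rw [Subgroup.orderOf_mk, hx, hL] at h8
  norm_num at h8

theorem row {K : Type u} [Group K] (h : Spor.IsoRu K) : BpS 3 K := by
  have D := Row.dat_ru h
  have hfin : Finite K := Nat.finite_of_card_ne_zero (by rw [D.card]; norm_num)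
  have hF : Fact (Nat.Prime 3) := ⟨by norm_num⟩
  obtain ⟨C, -, hL⟩ := Cfsg.Agent.CTwoTab.Ru.exists_core_sz h
  refine BdRow.bps_of_bd (by norm_num) (center_eq_bot_of_card D.simple (by rw [D.card]; norm_num))
    (D.inn 3 (by norm_num) (by norm_num)) fun t ht => ?_
  have ht2 : t * t = 1 := by rw [← pow_two, ← ht]; exact pow_orderOf_eq_one t
  have ht1 : t ≠ 1 := by
    rintro rfl
    rw [orderOf_one] at ht
    norm_num at ht
  rcases InvC.invol_cases C ht2 ht1 with ⟨g, hg⟩ | ⟨g, a, ha, hg⟩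
  · exact (bd_z C).conj (isConj_iff.2 ⟨g, hg⟩)
  · exact (bd_v C hL ha).conj (isConj_iff.2 ⟨g, hg⟩)

theorem bps_three : BpS 3 Spor.Ru := row ⟨MulEquiv.refl _⟩

end Cfsg.Agent.BpSpor.RuThree

end

-- merged: Cfsg.Agent.BpSpor.LyFive
section

/-!
# S1332: the row `BpS 5 Ly` (helper25)

The proof of `CpAut.LyFive.comps_five` (helper89) with the stronger conclusion that `C(x) / O_{5'}(C(x))` has no
component.
-/

set_option autoImplicit false

namespace Cfsg.Agent.BpSpor.LyFive

open Subgroup Equiv Cfsg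
open Cfsg.Agent.SporRec.TwoAn Cfsg.Agent.TypeM.Two Cfsg.Agent.CpAut.Cyc Cfsg.Agent.CpAut.CycFive
open Cfsg.Agent.CpAut.LyFive Cfsg.Agent.CpAut Cfsg.Agent.CpAut.LyFiveRow Cfsg.Agent.BpTab
open Cfsg.Agent.Ly.Mat7 Cfsg.Agent.Ly.Upper Cfsg.Agent.Ly.Setup

universe u

variable {G : Type u} [Group G] [Finite G]

theorem noComp_five (FT : ∀ (K : Type u) [Group K] [Finite K], Odd (Nat.card K) → Group.IsSolvable K)
    (L : MT 11 G) (hz : ∃ z₀ t₀ w₀ : G, orderOf z₀ = 5 ∧ orderOf t₀ = 2 ∧ orderOf w₀ = 3 ∧ t₀ * z₀ = z₀ * t₀ ∧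
      w₀ * t₀ = t₀ * w₀ ∧ w₀ * z₀ = z₀ * w₀ ∧ 5 ^ 3 ∣ Nat.card (centralizer ({z₀} : Set G))) {x : G}
    (hx : orderOf x = 5) : NoComp 5 ↥(centralizer ({x} : Set G)) := by
  by_cases hev : 2 ∣ Nat.card ↥(centralizer ({x} : Set G))
  swap
  · exact NoComp.of_solvable (FT _ (by rwa [← Nat.not_even_iff_odd, even_iff_two_dvd]))
  have : Fact (Nat.Prime 2) := ⟨Nat.prime_two⟩
  obtain ⟨s, hs⟩ := exists_prime_orderOf_dvd_card' 2 hev
  have hs2 : orderOf (s : G) = 2 := by rw [Subgroup.orderOf_coe]; exact hs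
  obtain ⟨hss, hs1⟩ := MT.sq_of_orderOf hs2
  obtain ⟨L', hL'⟩ := L.exists_rebase hss hs1
  have htx : L'.t * x = x * L'.t := by
    rw [hL']
    exact mem_centralizer_singleton_iff.1 s.2
  set y : ↥(centralizer ({L'.t} : Set G)) := ⟨x, mem_centralizer_singleton_iff.2 htx.symm⟩ with hyd
  have hx5 : x ^ 5 = 1 := by rw [← hx, pow_orderOf_eq_one]
  have hx1 : x ≠ 1 := by
    rintro rfl
    rw [orderOf_one] at hx
    norm_num at hx
  have hy5 : y ^ 5 = 1 := Subtype.ext hx5
  rcases five_cases L'.K hy5 (fun e => hx1 (congrArg Subtype.val e)) with hty | hty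
  · -- a 5-cycle
    intro J hJ
    refine no_comp_of_cycle FT L' hx htx hty ?_ J hJ
    obtain ⟨z₀, t₀, w₀, hz5, ht2, hw3, htz, hwt, hwz, h125⟩ := hz
    obtain ⟨htt, ht1⟩ := MT.sq_of_orderOf ht2
    -- conjugate `t₀` to `t`
    obtain ⟨g, hg⟩ := L'.conj_of_involutions htt ht1 L'.t_mul_t L'.t_ne
    set z₁ := g * z₀ * g⁻¹ with hz₁
    set w₁ := g * w₀ * g⁻¹ with hw₁
    have htz1 : L'.t * z₁ = z₁ * L'.t := by
      rw [← hg, hz₁]
      calc g * t₀ * g⁻¹ * (g * z₀ * g⁻¹) = g * (t₀ * z₀) * g⁻¹ := by group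
        _ = g * z₀ * g⁻¹ * (g * t₀ * g⁻¹) := by rw [htz]; group
    have htw1 : w₁ * L'.t = L'.t * w₁ := by
      rw [← hg, hw₁]
      calc g * w₀ * g⁻¹ * (g * t₀ * g⁻¹) = g * (w₀ * t₀) * g⁻¹ := by group
        _ = g * t₀ * g⁻¹ * (g * w₀ * g⁻¹) := by rw [hwt]; group
    have hwz1 : w₁ * z₁ = z₁ * w₁ := by
      rw [hw₁, hz₁]
      calc g * w₀ * g⁻¹ * (g * z₀ * g⁻¹) = g * (w₀ * z₀) * g⁻¹ := by group
        _ = g * z₀ * g⁻¹ * (g * w₀ * g⁻¹) := by rw [hwz]; group
    have hz15 : z₁ ^ 5 = 1 := by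
      rw [hz₁, conj_pow, ← hz5, pow_orderOf_eq_one, mul_one, mul_inv_cancel]
    have hz11 : z₁ ≠ 1 := by
      intro e
      rw [hz₁, conj_eq_one_iff] at e
      rw [e, orderOf_one] at hz5
      norm_num at hz5
    have hw13 : orderOf w₁ = 3 := by
      rw [hw₁, ← hw3]
      exact (MulEquiv.orderOf_eq (MulAut.conj g) w₀)
    set y₁ : ↥(centralizer ({L'.t} : Set G)) := ⟨z₁, mem_centralizer_singleton_iff.2 htz1.symm⟩ with hy₁
    have hy15 : y₁ ^ 5 = 1 := Subtype.ext hz15
    have hty1 : (L'.K.π y₁).cycleType = {5} := by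
      rcases five_cases L'.K hy15 (fun e => hz11 (congrArg Subtype.val e)) with h | h
      · exact h
      · exfalso
        let w' : ↥(centralizer ({L'.t} : Set G)) := ⟨w₁, mem_centralizer_singleton_iff.2 htw1⟩
        have hw' : w' ∈ centralizer ({y₁} : Set ↥(centralizer ({L'.t} : Set G))) :=
          mem_centralizer_singleton_iff.2 (Subtype.ext hwz1)
        have h1 : orderOf (⟨w', hw'⟩ : ↥(centralizer ({y₁} : Set ↥(centralizer ({L'.t} : Set G))))) = 3 := by
          rw [← Subgroup.orderOf_coe, ← Subgroup.orderOf_coe]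
          exact hw13
        have h2 := _root_.orderOf_dvd_natCard (⟨w', hw'⟩ : ↥(centralizer ({y₁} : Set ↥(centralizer ({L'.t} : Set G)))))
        rw [h1] at h2
        have h3 := h2.trans (card_cent_five_two L'.K h)
        revert h3
        decide
    -- `x` and `z₁` are conjugate
    obtain ⟨ρ, hρ, hρc⟩ := exists_even_conj (σ := L'.K.π y) (τ := L'.K.π y₁) (by rw [hty, hty1]) (by
      rw [← (L'.K.π y).sum_cycleType, hty]
      decide)
    obtain ⟨c, hc⟩ := Cyc.exists_conj L'.K (n := 5) (by decide) hy5 hy15 hρ hρc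
    have hcx : (c : G) * x * (c : G)⁻¹ = z₁ := congrArg Subtype.val hc
    have hcz : (g⁻¹ * (c : G)) * x * (g⁻¹ * (c : G))⁻¹ = z₀ := by
      have h1 : z₀ = g⁻¹ * z₁ * g := by rw [hz₁]; group
      rw [h1, ← hcx]
      group
    have hcard : Nat.card (centralizer ({x} : Set G)) = Nat.card (centralizer ({z₀} : Set G)) := by
      have h1 : (centralizer ({x} : Set G)).map (MulAut.conj (g⁻¹ * (c : G))).toMonoidHom =
          centralizer ({z₀} : Set G) := by
        ext v
        constructor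
        · rintro ⟨a, ha, rfl⟩
          rw [SetLike.mem_coe, mem_centralizer_singleton_iff] at ha
          rw [mem_centralizer_singleton_iff, ← hcz]
          change (g⁻¹ * (c : G)) * a * (g⁻¹ * (c : G))⁻¹ * ((g⁻¹ * (c : G)) * x * (g⁻¹ * (c : G))⁻¹) =
            (g⁻¹ * (c : G)) * x * (g⁻¹ * (c : G))⁻¹ * ((g⁻¹ * (c : G)) * a * (g⁻¹ * (c : G))⁻¹)
          calc (g⁻¹ * (c : G)) * a * (g⁻¹ * (c : G))⁻¹ * ((g⁻¹ * (c : G)) * x * (g⁻¹ * (c : G))⁻¹)
              = (g⁻¹ * (c : G)) * (a * x) * (g⁻¹ * (c : G))⁻¹ := by group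
            _ = (g⁻¹ * (c : G)) * x * (g⁻¹ * (c : G))⁻¹ * ((g⁻¹ * (c : G)) * a * (g⁻¹ * (c : G))⁻¹) := by
              rw [ha]; group
        · intro hv
          rw [mem_centralizer_singleton_iff, ← hcz] at hv
          refine ⟨(g⁻¹ * (c : G))⁻¹ * v * (g⁻¹ * (c : G)), ?_, ?_⟩
          · rw [SetLike.mem_coe, mem_centralizer_singleton_iff]
            calc (g⁻¹ * (c : G))⁻¹ * v * (g⁻¹ * (c : G)) * x
                = (g⁻¹ * (c : G))⁻¹ * (v * ((g⁻¹ * (c : G)) * x * (g⁻¹ * (c : G))⁻¹)) * (g⁻¹ * (c : G)) := by group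
              _ = x * ((g⁻¹ * (c : G))⁻¹ * v * (g⁻¹ * (c : G))) := by rw [hv]; group
          · change (g⁻¹ * (c : G)) * ((g⁻¹ * (c : G))⁻¹ * v * (g⁻¹ * (c : G))) * (g⁻¹ * (c : G))⁻¹ = v
            group
      rw [← h1]
      exact (card_map_of_injective (MulAut.conj (g⁻¹ * (c : G))).injective).symm
    rw [hcard]
    exact h125
  · -- type `5^2`
    apply NoComp.of_solvable
    let t' : ↥(centralizer ({x} : Set G)) := ⟨L'.t, mem_centralizer_singleton_iff.2 htx⟩
    have ht' : orderOf t' = 2 := by rw [← Subgroup.orderOf_coe]; exact L'.orderOf_t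
    refine TwoCov.solvable_of_two FT ht' ?_
    intro g k hk hgt
    have hgt' : (g : G) * L'.t = L'.t * g := congrArg Subtype.val hgt
    have hgx : (g : G) * x = x * g := mem_centralizer_singleton_iff.1 g.2
    have hk' : (g : G) ^ 2 ^ k = 1 := by
      have h0 := congrArg Subtype.val hk
      exact h0
    rcases two_elements L'.K hty (g := ⟨(g : G), L'.mem_iff.2 hgt'⟩) (Subtype.ext hgx) (k := k)
      (Subtype.ext hk') with h | h
    · left
      have h0 : (g : G) = 1 := congrArg Subtype.val h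
      exact Subtype.ext h0
    · right
      have h0 : (g : G) = (L'.K.z : ↥(centralizer ({L'.t} : Set G))) := congrArg Subtype.val h
      exact Subtype.ext (h0.trans L'.hz)



/-- **The row `BpS 5 Ly`.** -/
theorem bpS (FT : ∀ (K : Type) [Group K] [Finite K], Odd (Nat.card K) → Group.IsSolvable K) :
    BpS 5 Cfsg.Spor.Ly := by
  have : Finite Cfsg.Spor.Ly := Nat.finite_of_card_ne_zero (by rw [card_ly]; norm_num)
  obtain ⟨L⟩ := TypeM.FactsLy.exists_mt_ly
  refine bpS_of_inner (center_eq_bot_of_simple ?_) (autInner 5) ?_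
  · intro h
    have := pw_eq cd
    rw [pw_append, pw_append, pw_append, ← mul_assoc, h.is_comm.comm (pw wc) (pw wd)] at this
    exact pw_ne z_ne (mul_eq_left.1 this.symm)
  · intro g hg
    exact (noComp_five FT L exists_data hg).good

end Cfsg.Agent.BpSpor.LyFive

end

-- merged: Cfsg.Agent.BpSpor.LyRowFive
section

/-!
# S1332: the row `BpS 5 Ly` (helper25)
-/

set_option autoImplicit false

namespace Cfsg.Agent.BpSpor.Ly

/-- **The row `BpS 5 Ly`.** -/
theorem bps_five : Cfsg.Agent.BpTab.BpS 5 Cfsg.Spor.Ly :=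
  LyFive.bpS fun _ _ _ h => Cfsg.Agent.S0205.result h

end Cfsg.Agent.BpSpor.Ly

end

-- merged: Cfsg.Agent.BpSpor.MThreeRow
section

/-!
# S1332: the row `M`, `p = 3`, from the facts on `Co1` (helper23)
-/

set_option autoImplicit false
set_option maxRecDepth 100000

namespace Cfsg.Agent.BpSpor.MThree

open Cfsg Cfsg.Agent.MonsterU Cfsg.Agent.LThree Cfsg.Agent.LThreeMB
open Cfsg.Agent.MonsterU.Ch
open Cfsg.Agent.MonsterU.Lam2 (L2)
open Cfsg.Spor (Co1)
open Cfsg.Agent.MonsterX.KSide Cfsg.Agent.MonsterX.KLift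
open Subgroup (centralizer zpowers mem_centralizer_singleton_iff)

universe u

section

variable {G : Type u} {V P W : Type*} [Group G] [AddCommGroup V] [Module ℚ V]
  [DistribMulAction G V] [SMulCommClass G ℚ V] [Group P] [AddCommGroup W] [Module ℚ W]
  {M : KS G V P W} {θ : leechLattice → P}

theorem good_congr_conj {x g y : G} [Finite G] (h : g * x * g⁻¹ = y)
    (hx : BpTab.Good 3 ↥(centralizer ({x} : Set G))) : BpTab.Good 3 ↥(centralizer ({y} : Set G)) := by
  have : Fact (Nat.Prime 3) := ⟨Nat.prime_three⟩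
  obtain ⟨⟨e⟩, -⟩ := exists_XX_equiv h
  exact hx.congr e

/-- **`x` of order 3 in `C(z)`.** -/
theorem good_cent [Finite G] [IsSimpleGroup G] (L : Lift M θ) (hc : KChart.Cent M) (I : CoOne)
    (ht : TrNe M.z (KChart.pi hc)) (hp : HasPair M.z (KChart.pi hc)) (hG : Nat.card G ∣ nM)
    {x : centralizer ({M.z} : Set G)} (hx : orderOf x = 3) :
    BpTab.Good 3 ↥(centralizer ({(x : G)} : Set G)) := by
  have h3 : Fact (Nat.Prime 3) := ⟨Nat.prime_three⟩
  have h := KChart.chart L hc
  have hxG : orderOf (x : G) = 3 := by rw [Subgroup.orderOf_coe, hx]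
  have zero : ∀ {y : centralizer ({M.z} : Set G)}, orderOf y = 3 → fr (KChart.pi hc y) = 1 →
      BpTab.Good 3 ↥(centralizer ({(y : G)} : Set G)) := fun {y} hy hfr =>
    (dat_zero L hc ht hy hfr (I.suz _ (orderOf_pi h hy) hfr)).good ((Subgroup.card_subgroup_dvd_card _).trans hG)
  rcases I.ranks _ (orderOf_pi h hx) with hfr | hfr | hfr | hfr
  · exact zero hx hfr
  · obtain ⟨x₀, u, g, hx₀, hfr₀, huz, hux, hne, hg⟩ := hp
    obtain ⟨k, hk⟩ := conj_six h ht I.ranks I.six (fun x hx h2 => ⟨(good_of_inputs.{u} h I hx h2).simple,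
      (good_of_inputs.{u} h I hx h2).nc⟩) hx₀ hfr₀ huz hux hne hg hx hfr
    have hk' : k⁻¹ * (x₀ : G) * k⁻¹⁻¹ = x := by rw [← hk]; group
    exact good_congr_conj hk' (zero hx₀ hfr₀)
  · obtain ⟨e⟩ := LThreeB.isoTh_of_inputs h I hx hfr
    have hs := Cfsg.Agent.S1700.result
    refine Co1.good_of_XX hxG (BpTab.pPrimeCore_eq_bot_of_simple ((MulEquiv.isSimpleGroup_congr e).2 hs.1) ?_)
    rw [Nat.card_congr e.toEquiv, hs.2]
    norm_num
  · obtain ⟨e⟩ := LThreeB.isoFi_of_inputs h I hx hfr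
    have hs := Cfsg.Agent.S1698.result
    refine Co1.good_of_XX hxG (BpTab.pPrimeCore_eq_bot_of_simple ((MulEquiv.isSimpleGroup_congr e).2 hs.1) ?_)
    rw [Nat.card_congr e.toEquiv, hs.2]
    norm_num

end

open Cfsg.Agent.MonsterX Cfsg.Agent.MonsterX.InstData Cfsg.Agent.MonsterX.MainPack
open Cfsg.Agent.MonsterP Cfsg.Agent.MonsterN

theorem card_model : Nat.card ↥InstData.M.G = nM := by
  obtain ⟨f⟩ := Cfsg.Agent.MonsterP.Equiv.equiv
  rw [← Nat.card_congr f.toEquiv]
  exact Cfsg.Agent.MonsterP.Equiv.isM.2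

theorem good_model (I : CoOne) {x : ↥InstData.M.G} (hx : orderOf x = 3) :
    BpTab.Good 3 ↥(centralizer ({x} : Set ↥InstData.M.G)) := by
  have := LThreeMB.Row.finite_model
  have := LThreeMB.Row.simple_model
  by_cases he : Odd (Nat.card ↥(centralizer ({x} : Set ↥InstData.M.G)))
  · exact BpTab.good_of_solvable (LThreeMB.Row.ft _ he)
  · obtain ⟨g, hg⟩ := LThreeM.FiRow.exists_z_of_even hx he
    have h1 : (g⁻¹ * x * g) * KDone.K.z = KDone.K.z * (g⁻¹ * x * g) := by
      calc (g⁻¹ * x * g) * KDone.K.z = g⁻¹ * (x * (g * KDone.K.z * g⁻¹)) * g := by group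
        _ = g⁻¹ * ((g * KDone.K.z * g⁻¹) * x) * g := by rw [hg]
        _ = KDone.K.z * (g⁻¹ * x * g) := by group
    let x' : centralizer ({KDone.K.z} : Set ↥InstData.M.G) := ⟨g⁻¹ * x * g, mem_centralizer_singleton_iff.2 h1⟩
    have h3 : g * (x' : ↥InstData.M.G) * g⁻¹ = x := by
      show g * (g⁻¹ * x * g) * g⁻¹ = x
      group
    have hx' : orderOf x' = 3 := by
      rw [← Subgroup.orderOf_coe, ← hx, ← h3]
      exact (orderOf_injective (MulAut.conj g).toMonoidHom (MulAut.conj g).injective (x' : ↥InstData.M.G)).symm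
    exact good_congr_conj h3 (good_cent KDone.lft LThreeMB.Row.cent I
      (KPair.trNe KDone.lft LThreeMB.Row.cent (LThreeMBTr.traceNe KDone.lft LThreeMBTr.TensK.tens))
      (KPair.hasPair KDone.lft LThreeMB.Row.cent LThreeMB.Row.second COct.octPair) (by rw [card_model]) hx')

/-- **Row `M`, `p = 3`.** -/
theorem bps_three_of (I : CoOne) : BpTab.BpS 3 Spor.Monster := by
  have h3 : Fact (Nat.Prime 3) := ⟨Nat.prime_three⟩
  have hfin : Finite Spor.Monster := Nat.finite_of_card_ne_zero (by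
    rw [Cfsg.Agent.MonsterP.Equiv.isM.2]
    norm_num)
  obtain ⟨f⟩ := Cfsg.Agent.MonsterP.Equiv.equiv
  refine bpS_of_inner (center_eq_bot_of_card Cfsg.Agent.MonsterP.Equiv.isM.1 (by
    rw [Cfsg.Agent.MonsterP.Equiv.isM.2]; norm_num)) (Inn.m ⟨MulEquiv.refl _⟩ 3 Nat.prime_three (by norm_num))
    fun g hg => ?_
  have h1 : orderOf (f g) = 3 := by rw [MulEquiv.orderOf_eq, hg]
  have e : ↥(centralizer ({g} : Set Spor.Monster)) ≃* ↥(centralizer ({f g} : Set ↥InstData.M.G)) := by
    refine ((centralizer ({g} : Set Spor.Monster)).equivMapOfInjective f.toMonoidHom f.injective).trans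
      (MulEquiv.subgroupCongr ?_)
    ext y
    rw [Subgroup.mem_map, mem_centralizer_singleton_iff]
    constructor
    · rintro ⟨c, hc, rfl⟩
      rw [mem_centralizer_singleton_iff] at hc
      show f c * f g = f g * f c
      rw [← map_mul, hc, map_mul]
    · intro hy
      refine ⟨f.symm y, ?_, f.apply_symm_apply y⟩
      rw [mem_centralizer_singleton_iff]
      apply f.injective
      rw [map_mul, map_mul, f.apply_symm_apply, hy]
  have := LThreeMB.Row.finite_model
  exact (good_model I h1).congr e.symm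

end Cfsg.Agent.BpSpor.MThree

end

-- merged: Cfsg.Agent.BpSpor.CoOneFive
section

/-!
# S1332: the row `Co1`, `p = 5`, from the facts on the elements of order five (helper18)

* `bps_five_of` : the row from the three fixed ranks and the conjugacy of the elements of fixed rank 4 and 8
  (helper89), `C(s) / ⟨s⟩ ≅ J2` for fixed rank 0 (helper49) and the absence of components for an element of fixed rank 4
  (helper67); the element of fixed rank 8 is helper72's.
-/

set_option autoImplicit false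

namespace Cfsg.Agent.BpSpor.Co1

open Subgroup Cfsg Cfsg.Agent.BpTab Cfsg.Agent.Lib Cfsg.Agent.LThreeMB
open Cfsg.Spor (Co1)

/-- `Good p` of the centralizers of conjugate elements -/
theorem good_conj {p : ℕ} [Fact p.Prime] {s t : Co1} (h : ∃ g : Co1, g * s * g⁻¹ = t)
    (hs : _root_.Cfsg.Agent.BpTab.Good p ↥(centralizer ({s} : Set Co1))) : _root_.Cfsg.Agent.BpTab.Good p ↥(centralizer ({t} : Set Co1)) := by
  have hfin : Finite Co1 := CpAutBig.CoOneSeven.finite_co1
  obtain ⟨g, rfl⟩ := h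
  have e : ↥(centralizer ({s} : Set Co1)) ≃* ↥(centralizer ({g * s * g⁻¹} : Set Co1)) :=
    ((centralizer ({s} : Set Co1)).equivMapOfInjective _ (MulAut.conj g).injective).trans
      (MulEquiv.subgroupCongr (CpAutBig.CoZero.map_centralizer g s))
  exact hs.congr e

/-- **Row `Co1`, `p = 5`**, from the facts on the elements of order five. -/
theorem bps_five_of (hr : ∀ s : Co1, orderOf s = 5 → fr s = 1 ∨ fr s = 2 ^ 4 ∨ fr s = 2 ^ 8)
    (c4 : MFive.ClassOf 5 (2 ^ 4)) (c8 : MFive.ClassOf 5 (2 ^ 8))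
    (h0 : ∀ s : Co1, orderOf s = 5 → fr s = 1 → Spor.IsoJ2 (XX s))
    (h4 : ∃ s : Co1, orderOf s = 5 ∧ fr s = 2 ^ 4 ∧
      ∀ L : Subgroup (↥(centralizer ({s} : Set Co1)) ⧸ pPrimeCore 5 ↥(centralizer ({s} : Set Co1))), ¬ IsComponent L) :
    BpS 5 Co1 := by
  have hfin : Finite Co1 := CpAutBig.CoOneSeven.finite_co1
  have : Fact (Nat.Prime 5) := ⟨by norm_num⟩
  refine Transfer.bps_of_inner CpAutBig.CoOneSeven.center_co1 (CpAutBig.CoOneSeven.autInner 5) fun s hs => ?_
  rcases hr s hs with h | h | h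
  · obtain ⟨e⟩ := h0 s hs h
    refine good_of_XX hs (BpTab.pPrimeCore_eq_bot_of_simple ((MulEquiv.isSimpleGroup_congr e).2 S1620.result.1) ?_)
    rw [Nat.card_congr e.toEquiv, S1619.result.2.2.2]
    norm_num
  · obtain ⟨t, ht, hft, hL⟩ := h4
    exact good_conj (c4 t s ht hs hft h) (good_of_noComp hL)
  · refine good_conj (c8 MFiveHN.Cent.xx s MFiveHN.Cent.order_x hs MFiveHN.Inst.fr_xx h)
      (good_of_XX MFiveHN.Cent.order_x ?_)
    have hfX : Finite (XX MFiveHN.Cent.xx) := Nat.finite_of_card_ne_zero (by rw [MFiveHN.Cent.quo.1]; norm_num)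
    rcases MFiveHN.Cent.quo.2 _ (Cores.pPrimeCore_normal 5) with h1 | h1
    · exact h1
    · exfalso
      have h2 := Cores.pPrimeCore_coprime (G := XX MFiveHN.Cent.xx) 5
      have h3 : 5 ∣ Nat.card ↥(pPrimeCore 5 (XX MFiveHN.Cent.xx)) := Dvd.dvd.trans (by norm_num) h1
      have h4 := Nat.eq_one_of_dvd_coprimes h2 h3 dvd_rfl
      norm_num at h4

end Cfsg.Agent.BpSpor.Co1

end

-- merged: Cfsg.Agent.BpSpor.CoOneRows
section

/-!
# S1332: the rows `Co1`, `p = 3` and `p = 5`, with the classes and the fixed ranks plugged in (helper18)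

* `six` : the element of order three of fixed rank 6 (helper46, helper53);
* `bps_three_coOne` : the row `p = 3` from `LThreeMB.CoOne` alone;
* `bps_five_coFive` : the row `p = 5` from `C(s) / ⟨s⟩ ≅ J2` (fixed rank 0) and one element of fixed rank 4 whose
  centralizer has no components modulo the core.
-/

set_option autoImplicit false

namespace Cfsg.Agent.BpSpor.Co1

open Subgroup Cfsg Cfsg.Agent.BpTab Cfsg.Agent.Lib Cfsg.Agent.LThreeMB
open Cfsg.Spor (Co1)

/-- the element of order three of fixed rank 6 -/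
theorem six : ∃ s : Co1, orderOf s = 3 ∧ fr s = 2 ^ 6 ∧
    ∀ L : Subgroup (↥(centralizer ({s} : Set Co1)) ⧸ pPrimeCore 3 ↥(centralizer ({s} : Set Co1))), ¬ IsComponent L := by
  refine ⟨QuotientGroup.mk LThreeCo1.Class.c6, ?_, LThreeCo1.Ranks.fr_c6, LThreeCo1Six.Main.noComp_pr⟩
  have h3 : (QuotientGroup.mk LThreeCo1.Class.c6 : Co1) ^ 3 = 1 := by
    rw [← QuotientGroup.mk_pow, ← LThreeCo1.Class.order_c6, pow_orderOf_eq_one]
    rfl
  have : Fact (Nat.Prime 3) := ⟨Nat.prime_three⟩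
  refine orderOf_eq_prime h3 fun h1 => ?_
  have h4 := pow_card_eq_one' (G := Subgroup.center Co0)
    (x := ⟨LThreeCo1.Class.c6, (QuotientGroup.eq_one_iff _).1 h1⟩)
  rw [LThreeCo1Six.Main.card_center] at h4
  have h5 : orderOf LThreeCo1.Class.c6 ∣ 2 := orderOf_dvd_of_pow_eq_one (congrArg Subtype.val h4)
  rw [LThreeCo1.Class.order_c6] at h5
  norm_num at h5

/-- **Row `Co1`, `p = 3`**, from `LThreeMB.CoOne`. -/
theorem bps_three_coOne (I : CoOne) : BpS 3 Co1 := bps_three_of I six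

/-- **Row `Co1`, `p = 5`**, from the centralizers of fixed rank 0 and 4. -/
theorem bps_five_coFive (h0 : ∀ s : Co1, orderOf s = 5 → fr s = 1 → Spor.IsoJ2 (XX s))
    (h4 : ∃ s : Co1, orderOf s = 5 ∧ fr s = 2 ^ 4 ∧
      ∀ L : Subgroup (↥(centralizer ({s} : Set Co1)) ⧸ pPrimeCore 5 ↥(centralizer ({s} : Set Co1))), ¬ IsComponent L) :
    BpS 5 Co1 :=
  bps_five_of CoFive.Ranks.ranks (CoFive.Ranks.classOf _) (CoFive.Ranks.classOf _) h0 h4

end Cfsg.Agent.BpSpor.Co1

end

-- merged: Cfsg.Agent.BpSpor.CoOneFin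
section

/-!
# S1332: the row `Co1`, `p = 5`, from the centralizer of fixed rank 0 (helper18)
-/

set_option autoImplicit false

namespace Cfsg.Agent.BpSpor.Co1

open Subgroup Cfsg Cfsg.Agent.BpTab Cfsg.Agent.Lib Cfsg.Agent.LThreeMB
open Cfsg.Spor (Co1)

/-- the image in `Co1` of an element of order five of `Co0` has order five -/
theorem order_mk_five {g : Co0} (hg : orderOf g = 5) : orderOf (QuotientGroup.mk g : Co1) = 5 := by
  have : Fact (Nat.Prime 5) := ⟨Nat.prime_five⟩
  refine orderOf_eq_prime ?_ fun h1 => ?_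
  · rw [← QuotientGroup.mk_pow, ← hg, pow_orderOf_eq_one]
    rfl
  · have h5 := orderOf_dvd_of_pow_eq_one (CoFive.Ranks.sq_of_center ((QuotientGroup.eq_one_iff g).1 h1))
    rw [hg] at h5
    norm_num at h5

/-- **Row `Co1`, `p = 5`**, from `C(s) / ⟨s⟩ ≅ J2` for fixed rank 0. -/
theorem bps_five_zero (h0 : ∀ s : Co1, orderOf s = 5 → fr s = 1 → Spor.IsoJ2 (XX s)) : BpS 5 Co1 :=
  bps_five_coFive h0 ⟨QuotientGroup.mk CoFive.Class.r4, order_mk_five CoFive.Class.order_r4, CoFive.Ranks.fr_r4,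
    CoFiveC.Main.noComp_mk⟩

end Cfsg.Agent.BpSpor.Co1

end

-- merged: Cfsg.Agent.BpSpor.CoOneDone
section

/-!
# S1332: the rows `Co1`, `p = 3, 5`, without hypotheses (helper18)
-/

set_option autoImplicit false

namespace Cfsg.Agent.BpSpor.Co1

open Cfsg Cfsg.Agent.BpTab

/-- **Row `Co1`, `p = 3`.** -/
theorem bps_three : BpS 3 Spor.Co1 := bps_three_coOne LThreeMB.CoOneFin.coOne

/-- **Row `Co1`, `p = 5`.** -/
theorem bps_five : BpS 5 Spor.Co1 := bps_five_zero fun _ hs h => MFive.JTwo.isoJ2 hs h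

end Cfsg.Agent.BpSpor.Co1

end

-- merged: Cfsg.Agent.BpSpor.BThreeCases
section

/-!
# S1332: `C_M(x) ∩ C_M(t)`, `x` of order 3 and fixed rank 8 or 12, `t` not conjugate to `z` (helper23)

* `false_of_th` : fixed rank 8 (`C(x)/⟨x⟩ ≅ Th`, one class of involutions): `t` is conjugate to `z`;
* `good_fi` : fixed rank 12 (`C(x)/⟨x⟩ ≅ Fi24'`): the image of `t` is a product of two commuting transpositions, the
  centralizer is `2.Fi22` by a group of order at most 2;
* `good_inf` : `Good 3 (C(x) ∩ C(t))` in both cases.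
-/

set_option autoImplicit false

namespace Cfsg.Agent.BpSpor.BThree.Cases

open scoped commutatorElement
open Subgroup Cfsg Cfsg.Agent.LThree Cfsg.Agent.LThreeMB Cfsg.Agent.MonsterU Cfsg.Agent.MonsterU.Ch
open Cfsg.Agent.MonsterU.Lam2 (L2 IsType)
open Cfsg.Spor (Co1)
open Cfsg.Agent.LThreeB (XT mem_XT conj_comm' conjXT infEquiv ser_tt card_centralizer_congr dvd_pair)

universe u

/-! ### `Fi24'` -/

open Cfsg.Agent.R08 Cfsg.Agent.R08.FiTwentyFour in
/-- products of two commuting transpositions -/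
theorem good_pair {a b : Spor.Fi24} (P : Cfsg.Agent.R08.TetFi24A.At a b) {t : Spor.Fi24'}
    (ht : (t : Spor.Fi24) = a * b) : BpTab.Good 3 ↥(centralizer ({t} : Set Spor.Fi24')) := by
  have : Fact (Nat.Prime 3) := ⟨Nat.prime_three⟩
  have := finite_Fi24
  have hf4 : Finite Spor.Fi24' := inferInstance
  have hf22 : Finite Spor.Fi22 := Nat.finite_of_card_ne_zero (by rw [Cfsg.Agent.S1696.result.2]; norm_num)
  have hcm : ∀ x ∈ centralizer ({t} : Set Spor.Fi24'), ∀ y ∈ centralizer ({t} : Set Spor.Fi24'),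
      ⁅x, y⁆ ∈ CTwoTab.FiTF.N a b := by
    intro x hx y hy
    rw [CTwoTab.FiTF.mem_N]
    have h := CTwoTab.FiTF.comm_fix (CTwoTab.FiTF.fix_or_swap P ht hx) (CTwoTab.FiTF.fix_or_swap P ht hy)
    have e : ((⁅x, y⁆ : Spor.Fi24') : Spor.Fi24) = ⁅(x : Spor.Fi24), (y : Spor.Fi24)⁆ := by
      rw [commutatorElement_def, commutatorElement_def]
      push_cast
      rfl
    rw [mem_Cab, e]
    refine ⟨?_, h.1, h.2⟩
    rw [← e]
    exact mem_commutator_iff.1 (⁅x, y⁆ : Spor.Fi24').2
  let C := centralizer ({t} : Set Spor.Fi24')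
  let N : Subgroup ↥C := (CTwoTab.FiTF.N a b).subgroupOf C
  have hN : N.Normal := ⟨fun x hx c => by
    have h1 : c * x * c⁻¹ = ⁅c, x⁆ * x := by rw [commutatorElement_def]; group
    rw [h1]
    exact N.mul_mem (mem_subgroupOf.2 (hcm c c.2 x x.2)) hx⟩
  let e0 : ↥N ≃* ↥(Cab a b) := (subgroupOfEquivOfLe (CTwoTab.FiTF.N_le ht)).trans (CTwoTab.FiTF.eN a b)
  have hCab : BpTab.Good 3 ↥(Cab a b) := by
    refine (BpTab.good_of_simple Cfsg.Agent.S1696.result.1 : BpTab.Good 3 Spor.Fi22).of_surjective (f := P.π)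
      P.lift.ext.surj ?_
    exact (CTwoTab.FiTF.ker_le P).trans (center_le_centralizer _)
  refine (hCab.congr e0.symm).of_solvable_quotient (N := N) ?_
  refine Group.isSolvable_of_comm fun x y => ?_
  obtain ⟨x, rfl⟩ := QuotientGroup.mk'_surjective N x
  obtain ⟨y, rfl⟩ := QuotientGroup.mk'_surjective N y
  rw [← commutatorElement_eq_one_iff_mul_comm, ← map_commutatorElement]
  exact (QuotientGroup.eq_one_iff _).2 (mem_subgroupOf.2 (hcm x x.2 y y.2))

/-- **`Fi24'`**: `s` with `13` prime to `|C(s)|`, `t` not conjugate to `s`. -/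
theorem good_fi24 {X : Type u} [Group X] (h : Spor.IsoFi24' X) {s t : X} (hs : orderOf s = 2)
    (h13 : ¬ 13 ∣ Nat.card ↥(centralizer ({s} : Set X))) (ht : orderOf t = 2) (hn : ¬ IsConj t s) :
    BpTab.Good 3 ↥(centralizer ({t} : Set X)) := by
  have : Fact (Nat.Prime 3) := ⟨Nat.prime_three⟩
  have := Cfsg.Agent.R08.FiTwentyFour.finite_Fi24
  have hf4 : Finite Spor.Fi24' := inferInstance
  obtain ⟨e⟩ := h
  have hfX : Finite X := Finite.of_equiv _ e.symm.toEquiv
  have hes : orderOf (e s) = 2 := by rw [MulEquiv.orderOf_eq, hs]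
  have het : orderOf (e t) = 2 := by rw [MulEquiv.orderOf_eq, ht]
  obtain ⟨g, hg⟩ : ∃ g : Spor.Fi24', e s = g * CTwoTab.FiTF.z0 * g⁻¹ := by
    rcases CTwoTab.FiTF.classes (e s) hes with ⟨a, b, P, h1⟩ | h1
    · exfalso
      apply h13
      rw [card_centralizer_congr e]
      exact dvd_pair P h1
    · exact h1
  have hgood : BpTab.Good 3 ↥(centralizer ({e t} : Set Spor.Fi24')) := by
    rcases CTwoTab.FiTF.classes (e t) het with ⟨a, b, P, h1⟩ | ⟨k, hk⟩
    · exact good_pair P h1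
    · exfalso
      apply hn
      have h1 : IsConj (e t) (e s) := isConj_iff.2 ⟨g * k⁻¹, by rw [hk, hg]; group⟩
      obtain ⟨c, hc⟩ := isConj_iff.1 h1
      exact isConj_iff.2 ⟨e.symm c, e.injective (by
        rw [map_mul, map_mul, map_inv, e.apply_symm_apply, hc])⟩
  have e1 : ↥(centralizer ({t} : Set X)) ≃* ↥(centralizer ({e t} : Set Spor.Fi24')) := by
    refine ((centralizer ({t} : Set X)).equivMapOfInjective e.toMonoidHom e.injective).trans
      (MulEquiv.subgroupCongr ?_)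
    ext y
    rw [mem_map, mem_centralizer_singleton_iff]
    constructor
    · rintro ⟨c, hc, rfl⟩
      rw [mem_centralizer_singleton_iff] at hc
      show e c * e t = e t * e c
      rw [← map_mul, hc, map_mul]
    · intro hy
      refine ⟨e.symm y, mem_centralizer_singleton_iff.2 (e.injective ?_), e.apply_symm_apply y⟩
      rw [map_mul, map_mul, e.apply_symm_apply, hy]
  exact hgood.congr e1.symm

/-! ### The group `C(x) / ⟨x⟩` -/

variable {G : Type u} [Group G]

/-- an element of `C(x)` -/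
abbrev lf {x t : G} (htx : t * x = x * t) : ↥(centralizer ({x} : Set G)) := ⟨t, mem_centralizer_singleton_iff.2 htx⟩

/-- conjugacy in `C(x)/⟨x⟩` of images of involutions -/
theorem conj_of_isConj {x s t : G} (hx : orderOf x = 3) (hs : orderOf s = 2) (ht : orderOf t = 2)
    (hsx : s * x = x * s) (htx : t * x = x * t)
    (h : IsConj (QuotientGroup.mk' (Zx x) (lf htx)) (QuotientGroup.mk' (Zx x) (lf hsx))) :
    ∃ g : G, g * t * g⁻¹ = s := by
  obtain ⟨c, hc⟩ := isConj_iff.1 h
  obtain ⟨c, rfl⟩ := QuotientGroup.mk'_surjective (Zx x) c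
  rw [← map_inv, ← map_mul, ← map_mul] at hc
  have h1 : (lf hsx)⁻¹ * (c * lf htx * c⁻¹) ∈ Zx x := by
    refine (QuotientGroup.eq_one_iff _).1 ?_
    have h2 : QuotientGroup.mk' (Zx x) ((lf hsx)⁻¹ * (c * lf htx * c⁻¹)) = 1 := by
      rw [map_mul, hc, map_inv, inv_mul_cancel]
    exact h2
  obtain ⟨i, hi⟩ := Subgroup.mem_zpowers_iff.1 h1
  have hi' : (x : G) ^ i = s⁻¹ * ((c : G) * t * (c : G)⁻¹) := by
    have h2 := congrArg (fun y : ↥(centralizer ({x} : Set G)) => (y : G)) hi
    exact h2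
  have hcx : (c : G) * x = x * c := mem_centralizer_singleton_iff.1 c.2
  have hs2 : s * s = 1 := by rw [← pow_two, ← hs, pow_orderOf_eq_one]
  have ht2 : t * t = 1 := by rw [← pow_two, ← ht, pow_orderOf_eq_one]
  have hsi : s⁻¹ = s := inv_eq_of_mul_eq_one_left hs2
  have h3 : (c : G) * t * (c : G)⁻¹ = s * x ^ i := by rw [hi', ← mul_assoc, mul_inv_cancel, one_mul]
  have hsxi : s * x ^ i = x ^ i * s := (Commute.zpow_right (show Commute s x from hsx) i).eq
  have h4 : (x ^ i) * (x ^ i) = 1 := by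
    calc (x ^ i) * (x ^ i) = (s * s) * (x ^ i * x ^ i) := by rw [hs2, one_mul]
      _ = s * (s * x ^ i) * x ^ i := by group
      _ = s * (x ^ i * s) * x ^ i := by rw [hsxi]
      _ = (s * x ^ i) * (s * x ^ i) := by group
      _ = ((c : G) * t * (c : G)⁻¹) * ((c : G) * t * (c : G)⁻¹) := by rw [h3]
      _ = (c : G) * (t * t) * (c : G)⁻¹ := by group
      _ = 1 := by rw [ht2]; group
  have h5 : (x ^ i) ^ 3 = 1 := by
    rw [← zpow_natCast, ← zpow_mul, mul_comm, zpow_mul, zpow_natCast, ← hx, pow_orderOf_eq_one, one_zpow]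
  have h6 : x ^ i = 1 := by
    calc x ^ i = (x ^ i) * ((x ^ i) * (x ^ i)) := by rw [h4, mul_one]
      _ = (x ^ i) ^ 3 := by rw [pow_succ, pow_two, mul_assoc]
      _ = 1 := h5
  exact ⟨c, by rw [h3, h6, mul_one]⟩

/-- the image of an involution of `C(x)` -/
theorem orderOf_mk_lf [Finite G] {x t : G} (hx : orderOf x = 3) (ht : orderOf t = 2) (htx : t * x = x * t) :
    orderOf (QuotientGroup.mk' (Zx x) (lf htx)) = 2 := by
  have hc : (Nat.card ↥(Zx x)).Coprime 2 := by
    rw [LThreeB.card_Zx hx]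
    norm_num
  refine Red.orderOf_mk Nat.prime_two (Zx x) hc ?_
  rw [← ht, ← Subgroup.orderOf_coe]

/-- `Good 3 (C(x) ∩ C(t))` from the centralizer of the image of `t` in `C(x)/⟨x⟩`. -/
theorem good_of_quot [Finite G] {x t : G} (hx : orderOf x = 3) (ht : orderOf t = 2) (htx : t * x = x * t)
    (h : BpTab.Good 3 ↥(centralizer ({QuotientGroup.mk' (Zx x) (lf htx)} : Set (XX x)))) :
    BpTab.Good 3 ↥(XT x t) := by
  have : Fact (Nat.Prime 3) := ⟨Nat.prime_three⟩
  have hc : (Nat.card ↥(Zx x)).Coprime 2 := by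
    rw [LThreeB.card_Zx hx]
    norm_num
  have ho : orderOf (lf htx) = 2 := by rw [← ht, ← Subgroup.orderOf_coe]
  have h1 := Red.centralizer_mk Nat.prime_two (Zx x) hc ho
  let C := centralizer ({lf htx} : Set ↥(centralizer ({x} : Set G)))
  let f : ↥C →* ↥(C.map (QuotientGroup.mk' (Zx x))) := (QuotientGroup.mk' (Zx x)).subgroupMap C
  have hf : Function.Surjective f := (QuotientGroup.mk' (Zx x)).subgroupMap_surjective C
  have h2 : BpTab.Good 3 ↥(C.map (QuotientGroup.mk' (Zx x))) := h.congr (MulEquiv.subgroupCongr h1)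
  have h3 : BpTab.Good 3 ↥C := by
    refine h2.of_surjective hf ?_
    refine le_trans ?_ (center_le_centralizer _)
    intro y hy
    have hy1 : ((y : ↥C) : ↥(centralizer ({x} : Set G))) ∈ Zx x :=
      (QuotientGroup.eq_one_iff _).1 (congrArg Subtype.val (MonoidHom.mem_ker.1 hy))
    obtain ⟨i, hi⟩ := Subgroup.mem_zpowers_iff.1 hy1
    rw [mem_center_iff]
    intro g
    apply Subtype.ext
    apply Subtype.ext
    have hi' : x ^ i = (((y : ↥C) : ↥(centralizer ({x} : Set G))) : G) := by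
      have h4 := congrArg (fun y : ↥(centralizer ({x} : Set G)) => (y : G)) hi
      exact h4
    show (((g : ↥C) : ↥(centralizer ({x} : Set G))) : G) * (((y : ↥C) : ↥(centralizer ({x} : Set G))) : G) =
      (((y : ↥C) : ↥(centralizer ({x} : Set G))) : G) * (((g : ↥C) : ↥(centralizer ({x} : Set G))) : G)
    rw [← hi']
    exact (Commute.zpow_right (show Commute ((((g : ↥C) : ↥(centralizer ({x} : Set G))) : G)) x from
      mem_centralizer_singleton_iff.1 (g : ↥(centralizer ({x} : Set G))).2) i).eq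
  exact h3.congr (infEquiv htx)

/-! ### The two cases -/

variable {Q : Subgroup G} {z : G} {eta : G → L2} {pi : Subgroup.centralizer ({z} : Set G) →* Co1}

/-- **Fixed rank 8.** -/
theorem exists_of_th [Finite G] (hz : orderOf z = 2) {x : Subgroup.centralizer ({z} : Set G)} (hx : orderOf x = 3)
    (h : Spor.IsoTh (XX (x : G))) {t : G} (ht : orderOf t = 2) (htx : t * (x : G) = x * t) :
    ∃ g : G, g * t * g⁻¹ = z := by
  have hxG : orderOf (x : G) = 3 := by rw [Subgroup.orderOf_coe, hx]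
  have hzx : z * (x : G) = x * z := (mem_centralizer_singleton_iff.1 x.2).symm
  obtain ⟨e⟩ := h
  refine conj_of_isConj hxG hz ht hzx htx ?_
  have h1 : IsConj (e (QuotientGroup.mk' (Zx (x : G)) (lf htx))) (e (QuotientGroup.mk' (Zx (x : G)) (lf hzx))) :=
    MonsterX.ThOneClass.oneClass _ _ (by rw [MulEquiv.orderOf_eq, orderOf_mk_lf hxG ht htx])
      (by rw [MulEquiv.orderOf_eq, orderOf_mk_lf hxG hz hzx])
  obtain ⟨c, hc⟩ := isConj_iff.1 h1
  exact isConj_iff.2 ⟨e.symm c, e.injective (by rw [map_mul, map_mul, map_inv, e.apply_symm_apply, hc])⟩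

/-- **Fixed rank 12.** -/
theorem good_fi [Finite G] [IsSimpleGroup G] (h : Chart Q z eta pi) (I : CoOne)
    {x : Subgroup.centralizer ({z} : Set G)} (hx : orderOf x = 3) (hfr : fr (pi x) = 2 ^ 12)
    {t : G} (ht : orderOf t = 2) (htx : t * (x : G) = x * t) (hn : ∀ g : G, g * t * g⁻¹ ≠ z) :
    BpTab.Good 3 ↥(XT (x : G) t) := by
  have : Fact (Nat.Prime 3) := ⟨Nat.prime_three⟩
  obtain ⟨s, hs, hfs, hT, h4⟩ := I.psu
  obtain ⟨x', hx', hs', c, hc⟩ := exists_conj_to h hx hs (by rw [hfr]; exact I.twelve) (by rw [hfs, hfr])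
  subst hs'
  obtain ⟨h1, -, h3⟩ := ser_tt.{u, u} h hx' hfs hT
  have hi := iso_fi24 h hx' hfs (by rw [hfs]; exact I.twelve) hT h4
  have hz : orderOf z = 2 := LargeExtra.Base.orderOf_z h.large
  have hxG : orderOf (x' : G) = 3 := by rw [Subgroup.orderOf_coe, hx']
  have hzx : z * (x' : G) = x' * z := (mem_centralizer_singleton_iff.1 x'.2).symm
  have key : ∀ t' : G, orderOf t' = 2 → (∀ g : G, g * t' * g⁻¹ ≠ z) → (htx' : t' * (x' : G) = x' * t') →
      BpTab.Good 3 ↥(XT (x' : G) t') := by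
    intro t' ht' hn' htx'
    refine good_of_quot hxG ht' htx' (good_fi24 hi h1 h3 (orderOf_mk_lf hxG ht' htx') ?_)
    intro hcon
    obtain ⟨g, hg⟩ := conj_of_isConj hxG hz ht' hzx htx' hcon
    exact hn' g hg
  have e1 : c * (c⁻¹ * t * c) * c⁻¹ = t := by group
  have htx' : (c⁻¹ * t * c) * (x' : G) = x' * (c⁻¹ * t * c) := by
    have h5 := conj_comm' (g := c⁻¹) htx
    rw [inv_inv] at h5
    have e2 : c⁻¹ * (x : G) * c = x' := by rw [← hc]; group
    rwa [e2] at h5
  have ht' : orderOf (c⁻¹ * t * c) = 2 := by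
    rw [← ht]
    conv_rhs => rw [← e1]
    exact (orderOf_injective (MulAut.conj c).toMonoidHom (MulAut.conj c).injective (c⁻¹ * t * c)).symm
  have h5 := key (c⁻¹ * t * c) ht' (fun g hg => hn (g * c⁻¹) (by rw [← hg]; group)) htx'
  have e3 := conjXT c (x' : G) (c⁻¹ * t * c)
  rw [hc, e1] at e3
  exact h5.congr e3

/-- **`C(x) ∩ C(t)`**, `x` of order 3 in `C(z)` of fixed rank 8 or 12, `t` not conjugate to `z`. -/
theorem good_inf [Finite G] [IsSimpleGroup G] (h : Chart Q z eta pi) (I : CoOne)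
    {x : Subgroup.centralizer ({z} : Set G)} (hx : orderOf x = 3) (hfr : fr (pi x) = 2 ^ 8 ∨ fr (pi x) = 2 ^ 12)
    {t : G} (ht : orderOf t = 2) (htx : t * (x : G) = x * t) (hn : ∀ g : G, g * t * g⁻¹ ≠ z) :
    BpTab.Good 3 ↥(XT (x : G) t) := by
  rcases hfr with hfr | hfr
  · obtain ⟨g, hg⟩ := exists_of_th (LargeExtra.Base.orderOf_z h.large) hx (LThreeB.isoTh_of_inputs h I hx hfr) ht htx
    exact absurd hg (hn g)
  · exact good_fi h I hx hfr ht htx hn

end Cfsg.Agent.BpSpor.BThree.Cases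

end

-- merged: Cfsg.Agent.BpSpor.BThreeRow
section

/-!
# S1332: the row `B`, `p = 3` (helper46)
-/

set_option autoImplicit false
set_option maxRecDepth 100000

namespace Cfsg.Agent.BpSpor.BThree

open Cfsg Cfsg.Agent.MonsterU Cfsg.Agent.LThree Cfsg.Agent.LThreeMB Cfsg.Agent.LThreeB
open Cfsg.Agent.MonsterU.Ch
open Cfsg.Agent.MonsterU.Lam2 (L2)
open Cfsg.Spor (Co1)
open Cfsg.Agent.MonsterX.KSide Cfsg.Agent.MonsterX.KLift
open Subgroup (centralizer zpowers mem_centralizer_singleton_iff mem_centralizer_iff)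

universe u

section

variable {G : Type u} {V P W : Type*} [Group G] [AddCommGroup V] [Module ℚ V]
  [DistribMulAction G V] [SMulCommClass G ℚ V] [Group P] [AddCommGroup W] [Module ℚ W]
  {M : KS G V P W} {θ : leechLattice → P}

/-- **`C(x) ∩ C(t)`**, `x` in `C(z)`. -/
theorem good_of_mem (FT : ∀ (K : Type u) [Group K] [Finite K], Odd (Nat.card K) → Group.IsSolvable K) [Finite G]
    [IsSimpleGroup G] (L : Lift M θ) (hc : KChart.Cent M) (I : CoOne) (ht : TrNe M.z (KChart.pi hc))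
    (hp : HasPair M.z (KChart.pi hc)) {x : centralizer ({M.z} : Set G)}
    (hx : orderOf x = 3) {t : G} (hto : orderOf t = 2) (htx : t * (x : G) = x * t) (hn : ∀ g, g * t * g⁻¹ ≠ M.z) :
    BpTab.Good 3 ↥(XT (x : G) t) := by
  have h := KChart.chart L hc
  rcases I.ranks _ (orderOf_pi h hx) with hfr | hfr | hfr
  · exact good_zero FT L hc I ht hp hx hfr hto htx hn
  · obtain ⟨x₀, u, g, hx₀, hfr₀, huz, hux, hne, hg⟩ := id hp
    obtain ⟨k, hk⟩ := conj_six h ht I.ranks I.six (fun x hx h2 => ⟨(good_of_inputs.{u} h I hx h2).simple,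
      (good_of_inputs.{u} h I hx h2).nc⟩) hx₀ hfr₀ huz hux hne hg hx hfr
    have h2 : (k * t * k⁻¹) * (x₀ : G) = x₀ * (k * t * k⁻¹) := by
      rw [← hk]
      exact conj_comm' htx
    have h3 : orderOf (k * t * k⁻¹) = 2 := by
      rw [← hto]
      exact orderOf_injective (MulAut.conj k).toMonoidHom (MulAut.conj k).injective t
    refine good_conj (g := k⁻¹) (x := (x₀ : G)) (t := k * t * k⁻¹) ?_ ?_
      (good_zero FT L hc I ht hp hx₀ hfr₀ h3 h2 ?_)
    · rw [← hk]; group
    · group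
    · intro g hg
      apply hn (g * k)
      rw [← hg]
      group
  · exact Cases.good_inf h I hx hfr hto htx hn

/-- **`C(x) ∩ C(t)`**, for `x` commuting with a conjugate of `z`. -/
theorem good_in (FT : ∀ (K : Type u) [Group K] [Finite K], Odd (Nat.card K) → Group.IsSolvable K) [Finite G]
    [IsSimpleGroup G] (L : Lift M θ) (hc : KChart.Cent M) (I : CoOne) (ht : TrNe M.z (KChart.pi hc))
    (hp : HasPair M.z (KChart.pi hc)) {x t : G} (hx : orderOf x = 3)
    (hto : orderOf t = 2) (hxt : x * t = t * x) (hn : ∀ g, g * t * g⁻¹ ≠ M.z)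
    (hex : ∃ g : G, (g * M.z * g⁻¹) * x = x * (g * M.z * g⁻¹)) : BpTab.Good 3 ↥(XT x t) := by
  obtain ⟨g, hg⟩ := hex
  have h1 : (g⁻¹ * x * g) * M.z = M.z * (g⁻¹ * x * g) := by
    calc (g⁻¹ * x * g) * M.z = g⁻¹ * (x * (g * M.z * g⁻¹)) * g := by group
      _ = g⁻¹ * ((g * M.z * g⁻¹) * x) * g := by rw [hg]
      _ = M.z * (g⁻¹ * x * g) := by group
  let x' : centralizer ({M.z} : Set G) := ⟨g⁻¹ * x * g, mem_centralizer_singleton_iff.2 h1⟩
  have h3 : g * (x' : G) * g⁻¹ = x := by
    show g * (g⁻¹ * x * g) * g⁻¹ = x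
    group
  have hx' : orderOf x' = 3 := by
    rw [← Subgroup.orderOf_coe, ← hx, ← h3]
    exact (orderOf_injective (MulAut.conj g).toMonoidHom (MulAut.conj g).injective (x' : G)).symm
  have h4 : (g⁻¹ * t * g) * (x' : G) = x' * (g⁻¹ * t * g) := by
    have h5 := conj_comm' (g := g⁻¹) hxt.symm
    rw [inv_inv] at h5
    exact h5
  have h5 : orderOf (g⁻¹ * t * g) = 2 := by
    rw [← hto]
    have h6 := MulEquiv.orderOf_eq (MulAut.conj g⁻¹) t
    rw [MulAut.conj_apply, inv_inv] at h6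
    exact h6
  refine good_conj h3 (by group) (good_of_mem FT L hc I ht hp hx' h5 h4 ?_)
  intro d hd
  refine hn (d * g⁻¹) ?_
  rw [← hd]
  group

end

open Cfsg.Agent.MonsterX Cfsg.Agent.MonsterX.InstData Cfsg.Agent.MonsterX.MainPack
open Cfsg.Agent.MonsterP Cfsg.Agent.MonsterN
open Cfsg.Agent.MonsterX.MainBasic Cfsg.Agent.MonsterX.MainSimple Cfsg.Agent.MonsterX.Model
open Cfsg.Agent.CpAutBFive

/-- **Row `B`, `p = 3`.** -/
theorem bps_three_of (I : CoOne) : BpTab.BpS 3 Spor.BabyMonster := by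
  have hfin : Finite ↥InstData.M.G := MFive.Row.finite_model
  have hs : IsSimpleGroup ↥InstData.M.G := MFive.Row.simple_model
  refine BCover.bps_of Nat.prime_three (by norm_num) fun x v hx hv hxv => ?_
  obtain ⟨g, hg, -⟩ := LThreeM.FiRow.exists_z_in (by rw [← hx, pow_orderOf_eq_one]) hv hxv
  exact good_in MFive.Row.FT KDone.lft MFive.Row.hc I
    (KPair.trNe KDone.lft MFive.Row.hc (LThreeMBTr.traceNe KDone.lft LThreeMBTr.TensK.tens))
    (KPair.hasPair KDone.lft MFive.Row.hc LThreeB.Row.second COct.octPair) hx (RowB.orderOf_t hv) hxv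
    (RowB.not_conj hv) ⟨g, hg⟩

end Cfsg.Agent.BpSpor.BThree

end

-- merged: Cfsg.Agent.BpSpor.SuzFive
section

/-!
# S1332, the row `Suz`, `p = 5` (helper70)

`x` of order 5: `|C(t) ∩ C(x)|` divides `32 · 5` for all involutions `t` commuting with `x`.
-/

set_option autoImplicit false
set_option maxRecDepth 100000

namespace Cfsg.Agent.BpSpor.SuzFive

open Subgroup Cfsg Cfsg.Spor Cfsg.Agent.BpTab
open Cfsg.Agent.SuzThree.Basic Cfsg.Agent.SuzThree.CentA Cfsg.Agent.SuzThree.QZero Cfsg.Agent.KFacts.SuzR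
  Cfsg.Agent.KFacts.Codes Cfsg.Agent.KFacts.SuzLFour Cfsg.Agent.KFacts.SuzTwoB

/-! ### the elements of square 1 of `Q0` -/

theorem card_codes : Nat.card {c : Fin 128 // mulc BB 6 c c = 0} = 56 := by
  rw [Nat.card_eq_fintype_card]
  decide +kernel

theorem card_sqs_Q0 : Nat.card ↥(sqs Q0) = 56 := by
  rw [← card_codes]
  symm
  have hsq : ∀ c < 128, (cod 6 z0 xx c * cod 6 z0 xx c = 1 ↔ mulc BB 6 c c = 0) := by
    intro c hc
    have hlt : mulc BB 6 c c < 2 ^ 7 := by
      revert c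
      decide +kernel
    rw [cod_mul rels tri]
    constructor
    · intro h
      rw [← cod_zero (n := 6) (z := z0) (x := xx)] at h
      exact cod_injOn rels tri nondeg z_ne hlt (by norm_num) h
    · intro h
      rw [h, cod_zero]
  refine Nat.card_congr (Equiv.ofBijective (fun c => (⟨cod 6 z0 xx c.1, by
      rw [Q0_eq]; exact cod_mem c.1, (hsq c.1 c.1.2).2 c.2⟩ : ↥(sqs Q0))) ⟨?_, ?_⟩)
  · intro a b hab
    have h1 : cod 6 z0 xx a.1 = cod 6 z0 xx b.1 := congrArg (fun y : ↥(sqs Q0) => (y : Suz)) hab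
    exact Subtype.ext (Fin.ext (cod_injOn rels tri nondeg z_ne a.1.2 b.1.2 h1))
  · rintro ⟨y, hy, hyy⟩
    have hy' := hy
    rw [Q0_eq] at hy'
    obtain ⟨c, hc, rfl⟩ := (mem_RG rels tri).1 hy'
    exact ⟨⟨⟨c, hc⟩, (hsq c hc).1 hyy⟩, rfl⟩

/-! ### the class 2A -/

theorem bd_z0 : Cen.Bd 5 z0 := by
  intro x hx hxz
  have hfin := CTwoTab.Suz.finSuz
  have h2 : Fact (Nat.Prime 2) := ⟨Nat.prime_two⟩
  have h3 : Fact (Nat.Prime 3) := ⟨Nat.prime_three⟩
  have hQ : Nat.card ↥Q0 = 2 ^ 7 := card_R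
  set D := centralizer ({z0} : Set Suz) ⊓ centralizer ({x} : Set Suz) with hD
  have hDz : ∀ d ∈ D, d * z0 = z0 * d := fun d hd => mem_centralizer_singleton_iff.1 hd.1
  have hDx : ∀ d ∈ D, d * x = x * d := fun d hd => mem_centralizer_singleton_iff.1 hd.2
  have h3D : ¬ 3 ∣ Nat.card ↥D := by
    intro h
    obtain ⟨c, hc⟩ := exists_prime_orderOf_dvd_card' 3 h
    exact not_three KFacts.SuzLarge.large hQ card_sqs_Q0 hx hxz (c := (c : Suz))
      (by rw [Subgroup.orderOf_coe]; exact hc) (hDz c c.2) (hDx c c.2)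
  have h64 : ¬ 2 ^ 6 ∣ Nat.card ↥D := by
    intro h
    obtain ⟨T, hT⟩ := Sylow.exists_subgroup_card_pow_prime 2 h
    have h1 := card_two KFacts.SuzLarge.large hQ hx hxz (T := T.map D.subtype)
      (IsPGroup.of_card (n := 6) (by rw [card_map_of_injective (subtype_injective _), hT]))
      (by rintro _ ⟨t, -, rfl⟩; exact hDz t t.2) (by rintro _ ⟨t, -, rfl⟩; exact hDx t t.2)
    rw [card_map_of_injective (subtype_injective _), hT] at h1
    norm_num at h1
  have hd : Nat.card ↥D ∣ 2 ^ 13 * 5 * 3 ^ 4 := by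
    have h1 : Nat.card ↥D ∣ Nat.card ↥(centralizer ({z0} : Set Suz)) := card_dvd_of_le inf_le_left
    have h4 : Nat.card ↥(centralizer ({z0} : Set Suz)) = 3317760 := KFacts.SuzCent.card_C1
    rw [h4] at h1
    norm_num only []
    exact h1
  have hd2 : Nat.card ↥D ∣ 2 ^ 13 * 5 := by
    refine Nat.Coprime.dvd_of_dvd_mul_right ?_ hd
    exact Nat.Coprime.pow_right 4 ((Nat.Prime.coprime_iff_not_dvd Nat.prime_three).2 h3D).symm
  obtain ⟨a, b, ha, hb, hab⟩ := (Nat.dvd_mul).1 hd2
  obtain ⟨i, hi, rfl⟩ := (Nat.dvd_prime_pow Nat.prime_two).1 ha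
  refine ⟨1, ?_⟩
  rw [← hab, pow_one]
  refine Nat.mul_dvd_mul ?_ hb
  have hi5 : i ≤ 5 := by
    by_contra hlt
    exact h64 (by rw [← hab]; exact (pow_dvd_pow 2 (by omega)).mul_right b)
  exact pow_dvd_pow 2 hi5

/-! ### the class 2B -/

theorem card_L_inf {x : Suz} (hx : orderOf x = 5) (hxL : x ∈ L) :
    Nat.card ↥(L ⊓ centralizer ({x} : Set Suz)) ∣ 5 := by
  have hfin := CTwoTab.Suz.finSuz
  let e := CTwoTab.SuzPlane.equiv
  have hfin2 : Finite CTwoTab.SuzPlane.PSL3 := Finite.of_equiv _ e.toEquiv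
  have h2 := Cen.card_inf_dvd (C := L) (N := (⊥ : Subgroup Suz)) e.toMonoidHom (fun c hc => by
    have h3 : e c = 1 := hc
    have h4 : c = 1 := e.injective (by rw [h3, map_one])
    rw [h4]
    exact one_mem _) ⟨x, hxL⟩
  have h3 : Nat.card ↥((⊥ : Subgroup Suz) ⊓ centralizer ({x} : Set Suz)) = 1 := by
    rw [bot_inf_eq, card_bot]
  rw [h3, one_mul] at h2
  have ho : orderOf (e ⟨x, hxL⟩) = 5 := by
    rw [MulEquiv.orderOf_eq, ← Subgroup.orderOf_coe]
    exact hx
  exact h2.trans (dvd_of_eq (LFour.card_five ho))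

theorem sq_mem {G : Type*} [Group G] {A : Subgroup G} {x : G} (hx : orderOf x = 5) (h : x * x ∈ A) : x ∈ A := by
  have h2 : x = (x * x) ^ 3 := by
    have h3 : x ^ 5 = 1 := by rw [← hx, pow_orderOf_eq_one]
    calc x = x ^ 5 * x := by rw [h3, one_mul]
      _ = (x * x) ^ 3 := by rw [← pow_two, ← pow_mul, ← pow_succ]
  rw [h2]
  exact A.pow_mem h _

theorem bd_e0 : Cen.Bd 5 e0 := by
  intro x hx hxe
  have hfin := CTwoTab.Suz.finSuz
  have hCE : ∀ c d : Suz, c ∈ CE → d ∈ CE → c ∈ VL ∨ d ∈ VL ∨ c * d ∈ VL := by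
    intro c d hc hd
    by_cases h1 : c ∈ VL
    · exact Or.inl h1
    by_cases h2 : d ∈ VL
    · exact Or.inr (Or.inl h2)
    right; right
    have h3 := (mul_mem_iff_of_index_two idx.1 (a := (⟨c, hc⟩ : ↥CE)) (b := ⟨d, hd⟩)).2
      ⟨fun h => absurd (mem_subgroupOf.1 h) h1, fun h => absurd (mem_subgroupOf.1 h) h2⟩
    exact mem_subgroupOf.1 h3
  have hxC : x ∈ CE := mem_CE.2 hxe
  have hxVL : x ∈ VL := by
    refine sq_mem hx ?_
    rcases hCE x x hxC hxC with h | h | h
    · exact VL.mul_mem h h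
    · exact VL.mul_mem h h
    · exact h
  have hxL : x ∈ L := by
    refine sq_mem hx ?_
    obtain ⟨v, hv, l, hl, rfl⟩ := mem_VL.1 hxVL
    have h1 : v * l = l * v := V_comm v hv l hl
    have h2 : v * v = 1 := by
      have := CTwoTab.Suz.sq_V hv
      rwa [pow_one, pow_two] at this
    have h3 : v * l * (v * l) = l * l := by
      calc v * l * (v * l) = v * l * (l * v) := by rw [h1]
        _ = v * (l * l) * v := by group
        _ = v * (v * (l * l)) := by rw [mul_assoc, V_comm v hv _ (L.mul_mem hl hl)]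
        _ = l * l := by rw [← mul_assoc, h2, one_mul]
    rw [h3]
    exact L.mul_mem hl hl
  set D := centralizer ({e0} : Set Suz) ⊓ centralizer ({x} : Set Suz) with hD
  have h1 := Cen.card_of_two D VL fun c hc d hd => hCE c d hc.1 hd.1
  have h2 : Nat.card ↥(D ⊓ VL) ∣ 4 * 5 := by
    have hVx : ∀ v ∈ V, v * x = x * v := fun v hv => V_comm v hv x hxL
    have hle : ∀ (v : ↥V) (l : ↥(L ⊓ centralizer ({x} : Set Suz))), (v : Suz) * l ∈ D ⊓ VL := by
      intro v l
      have h3 : (v : Suz) * l ∈ VL := ⟨v, v.2, l, l.2.1, rfl⟩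
      refine ⟨⟨VL_le h3, mem_centralizer_singleton_iff.2 ?_⟩, h3⟩
      rw [mul_assoc, mem_centralizer_singleton_iff.1 l.2.2, ← mul_assoc, hVx v v.2, mul_assoc]
    let f : ↥V × ↥(L ⊓ centralizer ({x} : Set Suz)) →* ↥(D ⊓ VL) :=
      { toFun := fun a => ⟨(a.1 : Suz) * a.2, hle a.1 a.2⟩
        map_one' := Subtype.ext (by simp only [_root_.Prod.fst_one, _root_.OneMemClass.coe_one, _root_.Prod.snd_one, _root_.mul_one])
        map_mul' := fun a b => Subtype.ext (by
          change ((a.1 * b.1 : ↥V) : Suz) * ((a.2 * b.2 : ↥(L ⊓ centralizer ({x} : Set Suz))) : Suz) =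
            (a.1 : Suz) * a.2 * ((b.1 : Suz) * b.2)
          rw [Subgroup.coe_mul, Subgroup.coe_mul]
          have h4 : (b.1 : Suz) * a.2 = a.2 * b.1 := V_comm b.1 b.1.2 a.2 a.2.2.1
          calc (a.1 : Suz) * b.1 * (a.2 * b.2) = a.1 * (b.1 * a.2) * b.2 := by group
            _ = a.1 * a.2 * (b.1 * b.2) := by rw [h4]; group) }
    have hf : Function.Surjective f := by
      rintro ⟨d, hd1, hd2⟩
      obtain ⟨v, hv, l, hl, rfl⟩ := mem_VL.1 hd2
      have h4 := mem_centralizer_singleton_iff.1 hd1.2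
      have h5 : l * x = x * l := by
        have h6 : v * (l * x) = v * (x * l) := by
          calc v * (l * x) = v * l * x := by group
            _ = x * (v * l) := h4
            _ = (x * v) * l := by group
            _ = v * (x * l) := by rw [← hVx v hv]; group
        exact mul_left_cancel h6
      exact ⟨(⟨v, hv⟩, ⟨l, hl, mem_centralizer_singleton_iff.2 h5⟩), rfl⟩
    have h3 := card_dvd_of_surjective f hf
    rw [Nat.card_prod, card_V] at h3
    exact h3.trans (Nat.mul_dvd_mul_left 4 (card_L_inf hx hxL))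
  exact ⟨1, (h1.trans (Nat.mul_dvd_mul_left 2 h2)).trans (by norm_num)⟩

/-! ### the row -/

theorem bd {t : Suz} (ht : orderOf t = 2) : Cen.Bd 5 t := by
  have htt : t * t = 1 := by rw [← pow_two, ← ht, pow_orderOf_eq_one]
  have ht1 : t ≠ 1 := by
    rintro rfl
    rw [orderOf_one] at ht
    omega
  rcases CTwoTab.Suz.classes htt ht1 with h | h
  · exact bd_z0.conj h
  · exact bd_e0.conj h

/-- **S1332, the row `Suz`, `p = 5`** -/
theorem bps_five : BpS 5 Cfsg.Spor.Suz := by
  have D := Row.dat_suz (K := Cfsg.Spor.Suz) ⟨MulEquiv.refl _⟩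
  have hp : Fact (Nat.Prime 5) := ⟨by norm_num⟩
  have hf : Finite Cfsg.Spor.Suz := Nat.finite_of_card_ne_zero (by rw [D.card]; norm_num)
  refine bpS_of_inner (center_eq_bot_of_card D.simple (by rw [D.card]; norm_num))
    (D.inn 5 hp.out (by norm_num)) fun x hx => ?_
  refine Inv.good_of_inv (fun K _ _ h => S0205.result h)
    (Cen.not_dvd_of_bd hp.out (by norm_num) hx fun t ht => bd ht) fun t ht q hq hqd => ?_
  have ht' : orderOf (t : Cfsg.Spor.Suz) = 2 := by rw [Subgroup.orderOf_coe]; exact ht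
  obtain ⟨n, hn⟩ := bd ht' x hx (mem_centralizer_singleton_iff.1 t.2).symm
  rw [Cen.card_cent_sub] at hqd
  rcases hq.dvd_mul.1 (hqd.trans hn) with h | h
  · left
    rw [show 32 = 2 ^ 5 by norm_num] at h
    exact (Nat.prime_dvd_prime_iff_eq hq Nat.prime_two).1 (hq.dvd_of_dvd_pow h)
  · right
    exact (Nat.prime_dvd_prime_iff_eq hq hp.out).1 (hq.dvd_of_dvd_pow h)

end Cfsg.Agent.BpSpor.SuzFive

end

-- merged: Cfsg.Agent.BpSpor.ThRow
section

/-!
# S1332: the rows `BpS p Th`, `p = 3, 5, 7` (helper25)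
-/

set_option autoImplicit false
set_option maxRecDepth 100000

namespace Cfsg.Agent.BpSpor.Th

open Subgroup Cfsg
open Cfsg.Agent.BpTab Cfsg.Agent.CpAut
open Cfsg.Agent.Th.Base Cfsg.Agent.Th.Word Cfsg.Agent.Th.KOracle
  Cfsg.Agent.Th.COracleDef Cfsg.Agent.Th.IndexUpper
open Cfsg.Agent.CpAutTh.Data Cfsg.Agent.CpAutTh.Local Cfsg.Agent.CpAutTh.Mid
open Cfsg.Agent.KFacts.Th.Struct

theorem hone : ∀ u : Spor.Th, orderOf u = 2 → ∃ g : Spor.Th, g * u * g⁻¹ = gTh 1 := by
  intro u hu
  exact isConj_iff.1 (MonsterX.ThOneClass.oneClass u (gTh 1) hu MonsterX.ThOneClass.orderOf_a)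

theorem center_bot : center Spor.Th = ⊥ := by
  have hs : IsSimpleGroup Spor.Th := Th.Main1700.isTh.1
  apply CpAut.center_eq_bot_of_simple
  intro h
  have h1 : Nat.card Spor.Th = 90745943887872000 := KFacts.Th.Main.ctx.card
  have h2 : centralizer ({gTh 1} : Set Spor.Th) = ⊤ := by
    rw [eq_top_iff]
    intro g _
    exact mem_centralizer_singleton_iff.2 (h.is_comm.comm _ _)
  have h3 : Nat.card ↥(centralizer ({gTh 1} : Set Spor.Th)) = 92897280 := by
    rw [KFacts.Th.Main.ctx.cent, KFacts.Th.Main.ctx.cardC]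
  rw [h2, card_top, h1] at h3
  norm_num at h3

theorem autInner (p : ℕ) : AutInner p Spor.Th := fun x _ => KFacts.Th.Main.inner x

/-- elements commuting with an involution, or odd order -/
theorem good_of_pair {p : ℕ} [hp : Fact p.Prime] {x : Spor.Th}
    (h : ∀ s : Spor.Th, orderOf s = 2 → s * x = x * s → Good p ↥(centralizer ({x} : Set Spor.Th))) :
    Good p ↥(centralizer ({x} : Set Spor.Th)) := by
  have := KFacts.Th.Main.finite
  have h2F : Fact (Nat.Prime 2) := ⟨Nat.prime_two⟩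
  by_cases hev : 2 ∣ Nat.card ↥(centralizer ({x} : Set Spor.Th))
  swap
  · exact good_of_solvable (S0205.result (by rwa [← Nat.not_even_iff_odd, even_iff_two_dvd]))
  obtain ⟨u, hu⟩ := exists_prime_orderOf_dvd_card' 2 hev
  exact h u (by rw [Subgroup.orderOf_coe]; exact hu) (mem_centralizer_singleton_iff.1 u.2)

/-- **The row Th, `p = 5`.** -/
theorem bps_five : BpS 5 Spor.Th := by
  have := KFacts.Th.Main.finite
  have hp : Fact (Nat.Prime 5) := ⟨Nat.prime_five⟩
  obtain ⟨f, F⟩ := CpAutTh.Local.exists_epi KFacts.Th.Main.ctx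
  refine bpS_of_inner center_bot (autInner 5) fun x hx => good_of_pair fun s hs hsx => ?_
  obtain ⟨g, -, h2⟩ := exists_pair KFacts.Th.Main.ctx hone hx hs hsx (P := fun z => z = ev gTh X5) (fun y hy => by
    obtain ⟨c, hc⟩ := exists_rep_five KFacts.Th.Main.ctx F hy
    exact ⟨c, congrArg Subtype.val hc⟩)
  refine good_of_conj (u := ev gTh X5) (v := x) (c := g⁻¹) (by rw [← h2]; group)
    (ThCent.good_X5 KFacts.Th.Main.ctx F fun _ _ _ h => S0205.result h)

/-- **The row Th, `p = 7`.** -/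
theorem bps_seven : BpS 7 Spor.Th := by
  have := KFacts.Th.Main.finite
  have hp : Fact (Nat.Prime 7) := ⟨by norm_num⟩
  obtain ⟨f, F⟩ := CpAutTh.Local.exists_epi KFacts.Th.Main.ctx
  refine bpS_of_inner center_bot (autInner 7) fun x hx => good_of_pair fun s hs hsx => ?_
  obtain ⟨g, -, h2⟩ := exists_pair KFacts.Th.Main.ctx hone hx hs hsx (P := fun z => z = ev gTh X7) (fun y hy => by
    obtain ⟨c, hc⟩ := exists_rep_seven KFacts.Th.Main.ctx F hy
    exact ⟨c, congrArg Subtype.val hc⟩)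
  refine good_of_conj (u := ev gTh X7) (v := x) (c := g⁻¹) (by rw [← h2]; group)
    (ThThree.good_X7 KFacts.Th.Main.ctx F hone)

/-- **The row Th, `p = 3`.** -/
theorem bps_three : BpS 3 Spor.Th := by
  have := KFacts.Th.Main.finite
  have hp : Fact (Nat.Prime 3) := ⟨Nat.prime_three⟩
  obtain ⟨f, F⟩ := CpAutTh.Local.exists_epi KFacts.Th.Main.ctx
  refine bpS_of_inner center_bot (autInner 3) fun x hx => good_of_pair fun s hs hsx => ?_
  obtain ⟨g, -, h2⟩ := exists_pair KFacts.Th.Main.ctx hone hx hs hsx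
    (P := fun z => z = ev gTh X3 ∨ z = ev gTh X33 ∨ z = ev gTh X333) (fun y hy => by
      obtain ⟨c, hc⟩ := exists_rep_three KFacts.Th.Main.ctx F hy
      refine ⟨c, ?_⟩
      rcases hc with hc | hc | hc
      · exact Or.inl (congrArg Subtype.val hc)
      · exact Or.inr (Or.inl (congrArg Subtype.val hc))
      · exact Or.inr (Or.inr (congrArg Subtype.val hc)))
  rcases h2 with h2 | h2 | h2
  · exact good_of_conj (u := ev gTh X3) (v := x) (c := g⁻¹) (by rw [← h2]; group)
      (ThThree.good_X3 KFacts.Th.Main.ctx F)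
  · exact good_of_conj (u := ev gTh X33) (v := x) (c := g⁻¹) (by rw [← h2]; group)
      (ThThree.good_X33 KFacts.Th.Main.ctx F hone)
  · exact good_of_conj (u := ev gTh X333) (v := x) (c := g⁻¹) (by rw [← h2]; group)
      (ThCent.good_X333 KFacts.Th.Main.ctx F fun _ _ _ h => S0205.result h)

end Cfsg.Agent.BpSpor.Th

end

-- merged: Cfsg.Agent.CpAutLy.Bp
section

/-!
# S1332: the row `BpS 3 Ly` (helper67)
-/

set_option autoImplicit false

namespace Cfsg.Agent.CpAutLy.Bp

open Subgroup Cfsg Cfsg.Agent.CpAut Cfsg.Agent.BpTab Cfsg.Agent.BpSpor Cfsg.Agent.CpAutLy.Base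
  Cfsg.Agent.CpAutLy.McLThree

theorem good_three (FT : ∀ (K : Type) [Group K] [Finite K], Odd (Nat.card K) → Group.IsSolvable K)
    (hS : AllKnown.{0}) (T : OrdDiv.OrderTable.{0}) {x : Cfsg.Spor.Ly} (hx : orderOf x = 3) :
    Good 3 ↥(centralizer ({x} : Set Cfsg.Spor.Ly)) := by
  have : Fact (Nat.Prime 3) := ⟨Nat.prime_three⟩
  have hfin : Finite Cfsg.Spor.Ly := Cfsg.Agent.Ly.Setup.finite_ly
  rcases Row.dichotomy FT hS T hx with ⟨x₀, g, h₀, hg⟩ | h
  · obtain ⟨-, hs, -, -⟩ := TypeM.FactsMcL.facts h₀.quot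
    have h1 : Good 3 (↥(centralizer ({x₀} : Set Cfsg.Spor.Ly)) ⧸ center ↥(centralizer ({x₀} : Set Cfsg.Spor.Ly))) :=
      good_of_simple hs
    exact (Good.of_central h1 le_rfl).congr (_root_.Cfsg.Agent.CpAutLy.McLThree.centEquiv hg).symm
  · exact NoComp.good h

theorem bpS_three (FT : ∀ (K : Type) [Group K] [Finite K], Odd (Nat.card K) → Group.IsSolvable K)
    (hS : AllKnown.{0}) (T : OrdDiv.OrderTable.{0}) : BpS 3 Cfsg.Spor.Ly := by
  have hs : IsSimpleGroup Cfsg.Spor.Ly := Cfsg.Agent.Ly.Setup.isSimple_ly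
  refine bpS_of_inner (center_eq_bot_of_simple ?_) (LyFiveRow.autInner 3) (fun x hx => good_three FT hS T hx)
  intro hc
  obtain ⟨L⟩ := TypeM.FactsLy.exists_mt_ly
  obtain ⟨a, b, hab⟩ := TypeM.OutLyFin.not_comm (by norm_num) L
  exact hab (hc.is_comm.comm a b)

end Cfsg.Agent.CpAutLy.Bp

end

-- merged: Cfsg.Agent.BpSpor.AllPairs
section

/-!
# S1332: the 54 sporadic (and Tits) pairs (helper5)
-/

set_option autoImplicit false

namespace Cfsg.Agent.BpSpor.AllPairs

open Cfsg Cfsg.Agent.BpTab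

theorem isoTits_self : Lie.IsoTits Lie.TitsGroup := by
  refine Nonempty.intro ?_
  exact MulEquiv.refl Lie.TitsGroup

theorem fin_tits : Finite Lie.TitsGroup :=
  Nat.finite_of_card_ne_zero (by rw [(Row.dat_tits isoTits_self).card]; norm_num)

theorem tits {p : ℕ} (h : ∀ [Finite Lie.TitsGroup] [IsSimpleGroup Lie.TitsGroup], BpS p Lie.TitsGroup) :
    BpS p Lie.TitsGroup := by
  have := fin_tits
  have : IsSimpleGroup Lie.TitsGroup := (Row.dat_tits isoTits_self).simple
  exact h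

theorem hJ : CpAutBFive.Closed.HJ := fun _ hs h => MFive.JTwo.isoJ2 hs h

theorem hHe : BpRankZero.MRow.HeSix := fun x hx hfr =>
  BpRankZero.MSix.isoHe_of hx hfr (CpAutMSeven.SixRow.heHyp x hx hfr)

theorem ft : ∀ (K : Type) [Group K] [Finite K], Odd (Nat.card K) → Group.IsSolvable K :=
  fun _ _ _ h => S0205.result h

/-- all pairs -/
theorem pairs (hS : ∀ (G : Type) [Group G] [Finite G] [IsSimpleGroup G], IsKnownSimple' G)
    (hF : BpS 3 Spor.Fi24') : Main.Pairs where
  m11_3 := Mathieu.bps_m11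
  m12_3 := Mathieu.bps_m12
  m22_3 := Mathieu.bps_m22
  m23_3 := Mathieu.bps_m23
  m24_3 := MathieuB.bps_m24
  j2_3 := J2.bps_three
  j2_5 := SmallFive.j2_five
  j3_3 := fun F _ _ ω hF hω => JThree.bps ⟨F, _, _, ω, hF, hω, ⟨MulEquiv.refl _⟩⟩
  j4_3 := J4.bps_three
  j4_11 := JFour.bps_eleven
  co1_3 := Co1.bps_three
  co1_5 := Co1.bps_five
  co1_7 := Co1.bps_seven
  co2_3 := Co2.bps_three
  co2_5 := Co2.bps_five
  co3_3 := Co3.bps_three
  co3_5 := Co3.bps_five OrdDiv.table (fun _ _ _ _ => hS _)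
  mcl_3 := McL.bps_three ft hS OrdDiv.table
  mcl_5 := McL.bps_five
  hs_3 := HSInv.bps_three
  hs_5 := HSInv.bps_five
  suz_3 := SuzThree.bps_three
  suz_5 := SuzFive.bps_five
  he_3 := HeThree.bps_three
  he_5 := SmallFive.he_five
  he_7 := SmallFive.he_seven
  ru_3 := RuThree.bps_three
  ru_5 := Ru.bps_five
  on_3 := ONanThree.bps_three
  on_7 := ONan.bps_seven
  ly_3 := CpAutLy.Bp.bpS_three ft hS OrdDiv.table
  ly_5 := Ly.bps_five
  fi22_3 := FiTT.bps_three OrdDiv.table hS
  fi22_5 := FiTT.bps_five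
  fi23_3 := Fi23.bps_three
  fi23_5 := Fi23.bps_five
  fi24_3 := hF
  fi24_5 := FiTF.bps_five
  fi24_7 := Fi24.bps_seven ft
  hn_3 := HN.bps_three
  hn_5 := HN.bps_five
  th_3 := Th.bps_three
  th_5 := Th.bps_five
  th_7 := Th.bps_seven
  b_3 := BThree.bps_three_of LThreeMB.CoOneFin.coOne
  b_5 := M5.bps_five_b hJ
  b_7 := BpMon.BSeven.bps_of_he hHe
  m_3 := MThree.bps_three_of LThreeMB.CoOneFin.coOne
  m_5 := M5.bps_five_m hJ
  m_7 := BpRankZero.MRow.bps_seven_of hHe
  m_11 := M.bps_eleven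
  m_13 := BpMon.Thirteen.bps_thirteen hS
  tits_3 := tits (Tits.bps_three OrdDiv.table (fun _ _ _ _ => hS _) isoTits_self)
  tits_5 := tits (Tits.bps_five isoTits_self)

end Cfsg.Agent.BpSpor.AllPairs

end

-- merged: Cfsg.Agent.LThreeFi24N.EmptyT
section

/-!
# Elements of order 3 of `Fi24'` commuting with no transposition: involutions and elements of order 5 (helper48)

* `invol` : the involutions commuting with `x` are conjugate to `z`;
* `no_five`, `five` : `5` does not divide `|C(x)|`.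
-/

set_option autoImplicit false
set_option maxRecDepth 100000

namespace Cfsg.Agent.LThreeFi24N.EmptyT

open Subgroup Cfsg
open Cfsg.Agent.R08.FiTwentyFour (L)
open Cfsg.Spor (Fi24 Fi24')
open Cfsg.Agent.CTwoTab.FiTF (z0 classes coe_z0)
open Cfsg.Agent.LThreeFi24.SNine (x3)
open Cfsg.Agent.LThreeFi24N (cases_of_five comm_word x3_eq x2_eq x2l gmem letters_x1)

/-- the involutions commuting with `x` are conjugate to `z0` -/
theorem exists_z0 {x t : Fi24'} (hx : orderOf x = 3) (hD : ∀ d ∈ L, d * (x : Fi24) ≠ (x : Fi24) * d)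
    (ht : orderOf t = 2) (hxt : t * x = x * t) : ∃ g : Fi24', t = g * z0 * g⁻¹ := by
  rcases classes t ht with ⟨a, b, P, hab⟩ | h
  · exfalso
    have h1 : (x : Fi24) * (a * b) * (x : Fi24)⁻¹ = a * b := by
      rw [mul_inv_eq_iff_eq_mul, ← hab]
      exact (congrArg Subtype.val hxt).symm
    have h2 := (OddHalf.D4.Spor.FiTF.fix_of_odd P.ha P.hb P.ab P.ne h1 (by
      rw [Subgroup.orderOf_coe, hx]; decide)).1
    exact hD a P.ha (by
      have h3 : (x : Fi24) * a = a * x := h2
      exact h3.symm)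
  · exact h

/-- no element of order 5 commutes with `x` -/
theorem no_five {x y : Fi24'} (hx : orderOf x = 3) (hD : ∀ d ∈ L, d * (x : Fi24) ≠ (x : Fi24) * d)
    (hy : orderOf y = 5) (h : y * x = x * y) : False := by
  have hxo : orderOf (x : Fi24) = 3 := by rw [Subgroup.orderOf_coe, hx]
  have hyo : orderOf (y : Fi24) = 5 := by rw [Subgroup.orderOf_coe, hy]
  obtain ⟨t, ht⟩ := cases_of_five hxo hyo (congrArg Subtype.val h)
  have key : ∀ (x0 d : Fi24), d ∈ L → d * x0 = x0 * d → t * (x : Fi24) * t⁻¹ = x0 → False := by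
    intro x0 d hd hdx htx
    refine hD (t⁻¹ * d * t⁻¹⁻¹) (Cfsg.Agent.R08.FiTwentyFour.conj hd _) ?_
    rw [inv_inv]
    have e : (x : Fi24) = t⁻¹ * x0 * t := by rw [← htx]; group
    rw [e]
    calc t⁻¹ * d * t * (t⁻¹ * x0 * t) = t⁻¹ * (d * x0) * t := by group
      _ = t⁻¹ * (x0 * d) * t := by rw [hdx]
      _ = t⁻¹ * x0 * t * (t⁻¹ * d * t) := by group
  have x3l : Cfsg.Agent.Fischer.Fi24Rep.gen .l * x3 = x3 * Cfsg.Agent.Fischer.Fi24Rep.gen .l := by
    rw [x3_eq]
    exact comm_word (by decide +kernel)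
  rcases ht with ht | ht | ht
  · exact key _ _ (gmem .l) (letters_x1 (x := .l) (by simp)).1 ht
  · exact key _ _ (gmem .l) (by rw [x2_eq]; exact x2l) ht
  · exact key _ _ (gmem .l) x3l ht

end Cfsg.Agent.LThreeFi24N.EmptyT

end

-- merged: Cfsg.Agent.LThreeFi24N.GoodE
section

/-!
# Groups all of whose involutions act freely on `O_{3'}` (helper48)
-/

set_option autoImplicit false

namespace Cfsg.Agent.LThreeFi24N

open Subgroup Cfsg Cfsg.Agent.BpTab

universe u

/-- `O = O_{p'}(H)`; every involution has a solvable centralizer, and acts without fixed points on `O`: `O = 1` or `H` is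
solvable -/
theorem good_of_free {p : ℕ} {H : Type u} [Group H] [Finite H]
    (FT : ∀ (A : Type u) [Group A] [Finite A], Odd (Nat.card A) → Group.IsSolvable A)
    (h1 : ∀ t : H, orderOf t = 2 → Group.IsSolvable ↥(centralizer ({t} : Set H)))
    (h2 : ∀ t : H, orderOf t = 2 → ∀ u ∈ pPrimeCore p H, u * t = t * u → u = 1) : Good p H := by
  by_cases hO : pPrimeCore p H = ⊥
  · exact good_of_core hO
  apply good_of_solvable
  by_cases hH : Odd (Nat.card H)
  · exact FT H hH
  have hN := Lib.Cores.pPrimeCore_normal (G := H) p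
  have : Fact (Nat.Prime 2) := ⟨Nat.prime_two⟩
  obtain ⟨t, ht⟩ := exists_prime_orderOf_dvd_card' 2 (even_iff_two_dvd.1 (Nat.not_odd_iff_even.1 hH))
  set O := pPrimeCore p H with hOdef
  let C : Subgroup H := centralizer (O : Set H)
  have hC : C.Normal := inferInstance
  have hCodd : Odd (Nat.card ↥C) := by
    by_contra hcon
    obtain ⟨⟨c, hc⟩, hc2⟩ := exists_prime_orderOf_dvd_card' 2 (even_iff_two_dvd.1 (Nat.not_odd_iff_even.1 hcon))
    rw [Subgroup.orderOf_mk] at hc2
    apply hO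
    rw [eq_bot_iff]
    intro u hu
    exact mem_bot.2 (h2 c hc2 u hu (mem_centralizer_iff.1 hc u hu))
  have sq : ∀ s : H, orderOf s = 2 → s * s = 1 := fun s hs => by rw [← pow_two, ← hs, pow_orderOf_eq_one]
  have hinv : ∀ s : H, orderOf s = 2 → ∀ u ∈ O, s * u * s⁻¹ = u⁻¹ := fun s hs =>
    MThirteen.inverts (sq s hs) (fun g hg => hN.conj_mem g hg s)
      (fun g hg h => h2 s hs g hg (mul_inv_eq_iff_eq_mul.1 h).symm)
  have hcs : Group.IsSolvable ↥C := FT ↥C hCodd
  have hts := h1 t ht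
  have hq : Group.IsSolvable (H ⧸ C) := by
    refine Group.isSolvable_of_surjective (f := (QuotientGroup.mk' C).comp (centralizer ({t} : Set H)).subtype) ?_
    intro a
    obtain ⟨h, rfl⟩ := QuotientGroup.mk'_surjective C a
    have hs : orderOf (h * t * h⁻¹) = 2 := by rw [← ht]; exact MulEquiv.orderOf_eq (MulAut.conj h) t
    have hst : (h * t * h⁻¹) * t ∈ C := by
      refine mem_centralizer_iff.2 fun u hu => ?_
      have hu' : u ∈ O := hu
      have e1 := hinv t ht u hu'
      have e2 := hinv _ hs _ (O.inv_mem hu')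
      rw [inv_inv] at e2
      have e3 : ((h * t * h⁻¹) * t) * u * ((h * t * h⁻¹) * t)⁻¹ = u := by
        calc ((h * t * h⁻¹) * t) * u * ((h * t * h⁻¹) * t)⁻¹ = (h * t * h⁻¹) * (t * u * t⁻¹) * (h * t * h⁻¹)⁻¹ := by group
          _ = u := by rw [e1, e2]
      exact (mul_inv_eq_iff_eq_mul.1 e3).symm
    have hod : Odd (orderOf ((h * t * h⁻¹) * t)) := by
      have h3 : orderOf (⟨_, hst⟩ : ↥C) ∣ Nat.card ↥C := _root_.orderOf_dvd_natCard _
      rw [Subgroup.orderOf_mk] at h3
      exact Odd.of_dvd_nat hCodd h3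
    obtain ⟨c, hc, hct⟩ := MThirteen.conj_of_odd (sq _ hs) (sq t ht) hod
    have hcC : c ∈ C := (zpowers_le.2 hst) hc
    refine ⟨⟨c⁻¹ * h, ?_⟩, ?_⟩
    · rw [mem_centralizer_singleton_iff]
      have e4 : h * t = c * t * c⁻¹ * h := by rw [hct]; group
      calc c⁻¹ * h * t = c⁻¹ * (h * t) := by group
        _ = c⁻¹ * (c * t * c⁻¹ * h) := by rw [e4]
        _ = t * (c⁻¹ * h) := by group
    · change QuotientGroup.mk' C (c⁻¹ * h) = QuotientGroup.mk' C h
      rw [map_mul, map_inv, show QuotientGroup.mk' C c = 1 from (QuotientGroup.eq_one_iff c).2 hcC]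
      simp
  exact Group.isSolvable_of_ker_le_range C.subtype (QuotientGroup.mk' C) (by rw [QuotientGroup.ker_mk', range_subtype])

end Cfsg.Agent.LThreeFi24N

end

-- merged: Cfsg.Agent.LThreeFi24N.GoodF
section

/-!
# `Good 3 (C(x))`, `x ∈ Fi24'` of order 3 commuting with no transposition (helper48)
-/

set_option autoImplicit false
set_option maxRecDepth 100000

namespace Cfsg.Agent.LThreeFi24N

open Subgroup Cfsg Cfsg.Agent.BpTab Cfsg.Agent.BpSpor Cfsg.Agent.OrdDiv Cfsg.Agent.CpAut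
open Cfsg.Agent.R08.FiTwentyFour (L facts)
open Cfsg.Spor (Fi24 Fi24')
open Cfsg.Agent.KFacts.FiTF Cfsg.Agent.KFacts.FiTF.Defs
open Cfsg.Agent.R08.TetTwo (IsTet Mate)
open Cfsg.Agent.CTwoTab.FiTF (z0)
open Cfsg.Agent.LThreeFi24N.EmptyT (exists_z0 no_five)
open Cfsg.Agent.PreUniq.FiTF

/-- an element of order 3 of `Zc` commutes with a transposition -/
theorem exists_of_Zc {x : Fi24} (h3 : x ^ 3 = 1) (hx : x ∈ Z.Zc) : ∃ d ∈ L, d * x = x * d := by
  have hfin := Cfsg.Agent.R08.FiTwentyFour.finite_Fi24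
  have hF := Z.small x hx
  have hT := Order.hT
  set a := D 0 0
  set b := D 0 1
  set c := D 0 2
  set d := D 0 3
  let A : Set Fi24 := {a, b, c, d}
  have key : ∀ {e f g h : Fi24}, IsTet L z e f g h → x * e * x⁻¹ = e ∨ x * e * x⁻¹ = f ∨ x * e * x⁻¹ = g ∨
      x * e * x⁻¹ = h := by
    intro e f g h hT'
    rcases hF e ⟨hT'.ha, hT'.comm_a⟩ with h1 | h1
    · exact Or.inl h1
    · exact Or.inr (hT'.mate_cases Tet.tr h1)
  have hA : ∀ e ∈ A, x * e * x⁻¹ ∈ A := by
    rintro e (rfl | rfl | rfl | rfl)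
    · rcases key hT with h | h | h | h <;> rw [h] <;> simp only [A, _root_.Set.mem_insert_iff, _root_.Set.mem_singleton_iff, _root_.true_or, _root_.or_true]
    · rcases key hT.sw12 with h | h | h | h <;> rw [h] <;> simp only [A, _root_.Set.mem_insert_iff, _root_.Set.mem_singleton_iff, _root_.true_or, _root_.or_true]
    · rcases key hT.sw13 with h | h | h | h <;> rw [h] <;> simp only [A, _root_.Set.mem_insert_iff, _root_.Set.mem_singleton_iff, _root_.true_or, _root_.or_true]
    · rcases key hT.sw14 with h | h | h | h <;> rw [h] <;> simp only [A, _root_.Set.mem_insert_iff, _root_.Set.mem_singleton_iff, _root_.or_true, _root_.true_or]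
  have hc : A.ncard = 4 := by
    change Set.ncard (insert a (insert b (insert c (Set.singleton d)))) = 4
    rw [Set.ncard_insert_of_notMem, Set.ncard_insert_of_notMem, Set.ncard_insert_of_notMem]
    · change ({d} : Set Fi24).ncard + 1 + 1 + 1 = 4
      rw [Set.ncard_singleton]
    · exact hT.ncd
    · rintro (h | h)
      · exact hT.nbc h
      · exact hT.nbd h
    · rintro (h | h | h)
      · exact hT.nab h
      · exact hT.nac h
      · exact hT.nad h
  obtain ⟨e, he, hxe⟩ := Cfsg.Agent.LThreeFi24.Red24.exists_fixed h3 A hA (by rw [hc]; norm_num)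
  refine ⟨e, ?_, hxe.symm⟩
  rcases he with rfl | rfl | rfl | rfl
  · exact hT.ha
  · exact hT.hb
  · exact hT.hc
  · exact hT.hd

section

variable (T : OrderTable.{0}) (hA : AllKnown.{0})

include T hA

/-- `C(x) ∩ C(t)` is a `{2, 3}`-group -/
theorem primes_ct {x t y : Fi24'} (hx : orderOf x = 3) (hD : ∀ d ∈ L, d * (x : Fi24) ≠ x * d) (ht : orderOf t = 2)
    (hxt : x * t = t * x) {r : ℕ} (hr : r.Prime) (hr5 : 5 ≤ r) (hy : orderOf y = r) (hyx : y * x = x * y)
    (hyt : y * t = t * y) : False := by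
  obtain ⟨g, rfl⟩ := exists_z0 hx hD ht hxt.symm
  have back : ∀ a b : Spor.Fi24', a * (g * b * g⁻¹) = g * b * g⁻¹ * a → g⁻¹ * a * g * b = b * (g⁻¹ * a * g) := by
    intro a b h
    calc g⁻¹ * a * g * b = g⁻¹ * (a * (g * b * g⁻¹)) * g := by group
      _ = g⁻¹ * (g * b * g⁻¹ * a) * g := by rw [h]
      _ = b * (g⁻¹ * a * g) := by group
  have back2 : ∀ a b : Spor.Fi24', a * b = b * a → g⁻¹ * a * g * (g⁻¹ * b * g) = g⁻¹ * b * g * (g⁻¹ * a * g) := by
    intro a b h
    calc g⁻¹ * a * g * (g⁻¹ * b * g) = g⁻¹ * (a * b) * g := by group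
      _ = g⁻¹ * (b * a) * g := by rw [h]
      _ = g⁻¹ * b * g * (g⁻¹ * a * g) := by group
  have ho' : ∀ a : Spor.Fi24', orderOf (g⁻¹ * a * g) = orderOf a := by
    intro a
    have : g⁻¹ * a * g = MulAut.conj g⁻¹ a := by rw [MulAut.conj_apply, inv_inv]
    rw [this]
    exact MulEquiv.orderOf_eq _ _
  have hrc : r ∣ 160526499840 := by
    rw [← Z.card_CK_eq, ← hy, ← ho']
    have h1 : g⁻¹ * y * g ∈ centralizer ({z0} : Set Spor.Fi24') :=
      mem_centralizer_singleton_iff.2 (back _ _ hyt)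
    have h2 := _root_.orderOf_dvd_natCard (⟨_, h1⟩ : ↥(centralizer ({z0} : Set Spor.Fi24')))
    rw [orderOf_mk] at h2
    exact h2
  have hr57 : r = 5 ∨ r = 7 := by
    rw [show (160526499840 : ℕ) = 2 ^ 21 * 3 ^ 7 * (5 * 7) by norm_num] at hrc
    rcases (hr.dvd_mul).1 hrc with h1 | h1
    · rcases (hr.dvd_mul).1 h1 with h2 | h2
      · have := Nat.le_of_dvd (by norm_num) (hr.dvd_of_dvd_pow h2); omega
      · have := Nat.le_of_dvd (by norm_num) (hr.dvd_of_dvd_pow h2); omega
    · rcases (hr.dvd_mul).1 h1 with h2 | h2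
      · exact Or.inl ((Nat.prime_dvd_prime_iff_eq hr (by norm_num)).1 h2)
      · exact Or.inr ((Nat.prime_dvd_prime_iff_eq hr (by norm_num)).1 h2)
  rcases hr57 with rfl | rfl
  · exact no_five hx hD hy hyx
  · have hx3 : x ^ 3 = 1 := by rw [← hx, pow_orderOf_eq_one]
    have hf3 : (g⁻¹ * x * g) ^ 3 = 1 := by
      have : g⁻¹ * x * g = g⁻¹ * x * g⁻¹⁻¹ := by rw [inv_inv]
      rw [this, conj_pow, hx3]; group
    have hfZ : ((g⁻¹ * x * g : Spor.Fi24') : Fi24) ∉ Z.Zc := by
      intro h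
      obtain ⟨d, hd, hc⟩ := exists_of_Zc (congrArg Subtype.val hf3) h
      refine hD ((g : Fi24) * d * (g : Fi24)⁻¹) (Cfsg.Agent.R08.FiTwentyFour.conj hd _) ?_
      have hc' : d * ((g : Fi24)⁻¹ * x * g) = ((g : Fi24)⁻¹ * x * g) * d := hc
      calc (g : Fi24) * d * (g : Fi24)⁻¹ * x = g * (d * ((g : Fi24)⁻¹ * x * g)) * (g : Fi24)⁻¹ := by group
        _ = g * (((g : Fi24)⁻¹ * x * g) * d) * (g : Fi24)⁻¹ := by rw [hc']
        _ = x * (g * d * (g : Fi24)⁻¹) := by group
    refine Z.not_seven T hA (f := ((g⁻¹ * x * g : Spor.Fi24') : Spor.Fi24))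
      (y := ((g⁻¹ * y * g : Spor.Fi24') : Spor.Fi24)) (congrArg Subtype.val hf3) (g⁻¹ * x * g).2
      (congrArg Subtype.val (back _ _ hxt)) hfZ ?_ (g⁻¹ * y * g).2
      (congrArg Subtype.val (back _ _ hyt)) (congrArg Subtype.val (back2 _ _ hyx))
    rw [Subgroup.orderOf_coe, ho', hy]

/-- **the elements commuting with no transposition** -/
theorem good_of_empty (FT : ∀ (A : Type) [Group A] [Finite A], Odd (Nat.card A) → Group.IsSolvable A) {x : Fi24'}
    (hx : orderOf x = 3) (hD : ∀ d ∈ L, d * (x : Fi24) ≠ x * d)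
    (hI : Cfsg.Agent.LThreeFi24.EmptyAbs.Inv ↥(centralizer ({x} : Set Fi24'))) :
    Good 3 ↥(centralizer ({x} : Set Fi24')) := by
  have hfin := Cfsg.Agent.R08.FiTwentyFour.finite_Fi24
  have hodd := Cfsg.Agent.LThreeFi24.EmptyAbs.odd_core hI
  have key : ∀ (t : ↥(centralizer ({x} : Set Fi24'))), orderOf t = 2 → ∀ (y : ↥(centralizer ({x} : Set Fi24'))) (r : ℕ),
      r.Prime → 5 ≤ r → orderOf y = r → y * t = t * y → False := by
    intro t ht y r hr hr5 hy hyt
    refine primes_ct T hA (x := x) (t := (t : Fi24')) (y := (y : Fi24')) hx hD (by rw [Subgroup.orderOf_coe, ht])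
      (mem_centralizer_singleton_iff.1 t.2).symm hr hr5 (by rw [Subgroup.orderOf_coe, hy])
      (mem_centralizer_singleton_iff.1 y.2) (congrArg Subtype.val hyt)
  refine good_of_free FT ?_ ?_
  · intro t ht
    apply LThreeFi24.Comp.solvable_of_primes
    intro r hr hd
    by_contra hcon
    push Not at hcon
    have hr5 : 5 ≤ r := by
      have h4 := hr.two_le
      have h6 : r ≠ 4 := by rintro rfl; revert hr; decide
      omega
    have : Fact r.Prime := ⟨hr⟩
    obtain ⟨y, hy⟩ := exists_prime_orderOf_dvd_card' r hd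
    exact key t ht y r hr hr5 (by rw [Subgroup.orderOf_coe, hy]) (mem_centralizer_singleton_iff.1 y.2)
  · intro t ht u hu hut
    by_contra hu1
    set O := pPrimeCore 3 ↥(centralizer ({x} : Set Fi24')) with hO
    have hou : orderOf u ∣ Nat.card ↥O := by
      have := _root_.orderOf_dvd_natCard (⟨u, hu⟩ : ↥O)
      rwa [Subgroup.orderOf_mk] at this
    have hne : orderOf u ≠ 1 := fun h => hu1 (orderOf_eq_one_iff.1 h)
    obtain ⟨r, hr, hrd⟩ := Nat.exists_prime_and_dvd hne
    have hr2 : r ≠ 2 := by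
      rintro rfl
      exact (Nat.not_even_iff_odd.2 hodd) (even_iff_two_dvd.2 (hrd.trans hou))
    have hr3 : r ≠ 3 := by
      rintro rfl
      exact (Nat.Prime.coprime_iff_not_dvd Nat.prime_three).1
        (Lib.Cores.pPrimeCore_coprime (G := ↥(centralizer ({x} : Set Fi24'))) 3).symm (hrd.trans hou)
    have hr5 : 5 ≤ r := by
      have h4 := hr.two_le
      have h6 : r ≠ 4 := by rintro rfl; revert hr; decide
      omega
    obtain ⟨n, hn⟩ := LThreeFi24.CompB.exists_pow_prime hr hrd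
    refine key t ht (u ^ n) r hr hr5 hn ?_
    have hc : Commute u t := hut
    exact (hc.pow_left n).eq

end

end Cfsg.Agent.LThreeFi24N

end

-- merged: Cfsg.Agent.BpSpor.FiTFThree
section

/-!
# S1332, row `(Fi24', 3)` (helper48)

Modulo `Inv (C(x))` (helper40) for the elements `x` of order 3 commuting with no transposition.
-/

set_option autoImplicit false

namespace Cfsg.Agent.BpSpor.FiTF

open Subgroup Cfsg Cfsg.Agent.BpTab Cfsg.Agent.OrdDiv Cfsg.Agent.CpAut
open Cfsg.Agent.R08.FiTwentyFour (L)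
open Cfsg.Spor (Fi24)

/-- **Row `(Fi24', 3)`**, from the local condition on the centralizers of the elements commuting with no transposition. -/
theorem bps_three_of (T : OrderTable.{0}) (hA : AllKnown.{0})
    (FT : ∀ (A : Type) [Group A] [Finite A], Odd (Nat.card A) → Group.IsSolvable A)
    (hI : ∀ x : Spor.Fi24', orderOf x = 3 → (∀ d ∈ L, d * (x : Fi24) ≠ (x : Fi24) * d) →
      LThreeFi24.EmptyAbs.Inv ↥(centralizer ({x} : Set Spor.Fi24'))) : BpS 3 Spor.Fi24' := by
  have hfin := Cfsg.Agent.R08.FiTwentyFour.finite_Fi24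
  have hs : IsSimpleGroup Spor.Fi24' := Cfsg.Agent.S1698.result.1
  have hc : center Spor.Fi24' = ⊥ := center_eq_bot_of_card hs (by
    rw [Cfsg.Agent.S1698.result.2]
    norm_num)
  refine bpS_of_inner hc (Inn.fi24 ⟨MulEquiv.refl _⟩ 3 Nat.prime_three (by norm_num)) ?_
  intro x hx
  by_cases h : ∃ d ∈ L, d * (x : Fi24) = (x : Fi24) * d
  · obtain ⟨d, hd, hdx⟩ := h
    exact LThreeFi24N.good_of_nonempty hx hd hdx
  · push Not at h
    exact LThreeFi24N.good_of_empty T hA FT hx h (hI x hx h)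

end Cfsg.Agent.BpSpor.FiTF

end

-- merged: Cfsg.Agent.BpTab.Spor
section

/-!
# S1332: all sporadic pairs from S0000
-/

set_option autoImplicit false

namespace Cfsg.Agent.BpTab.Spor

open Cfsg Cfsg.Agent.BpTab

/-- **All sporadic pairs**, from S0000. -/
theorem pairs (hS : ∀ (G : Type) [Group G] [Finite G] [IsSimpleGroup G], IsKnownSimple' G) : BpSpor.Main.Pairs :=
  BpSpor.AllPairs.pairs hS (BpSpor.FiTF.bps_three_of OrdDiv.table hS (fun _ _ _ h => S0205.result h)
    fun _ hx he => LThreeFi24.EmptyInv.inv_of OrdDiv.table hS (LThreeFi24.EmptyDat.exists_dat OrdDiv.table hS) hx he)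

end Cfsg.Agent.BpTab.Spor

end
end
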